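import Cfsg.Agent.Known.OrthMinDegree.Minus.Plane
import Cfsg.Agent.Known.OrthMinDegree.Odd.Class
import Cfsg.Agent.Classical.Orth.Orders

/-! The singular pairs, and the divisibility from the class of the root elements. -/

set_option autoImplicit false
set_option linter.unusedSectionVars false
set_option linter.style.haveILetI false

open Matrix Cfsg.Lib.Classical Cfsg.Lib.Classical.Refl Cfsg.Lib.Classical.HypQuad Cfsg.Lib.SLMinDeg

namespace Cfsg.Lib.OrthMinDeg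

universe u v

variable {F : Type u} [Field F] [Fintype F]

/-- The minus form on the mixed space. -/
theorem mix_plane_coe (n : ℕ) (a b : F) : ⇑(mixForm n (planeQ a b)) = Cfsg.quadFormMinus n F a b := by
  funext v
  rw [mix_apply, plus_dot, planeQ_apply, Cfsg.quadFormMinus, sq, sq, mul_assoc a]
  rfl

theorem card_zero_plane (n : ℕ) {a b : F}
    (hab : ∀ z₁ z₂ : F, z₁ ^ 2 + a * z₁ * z₂ + b * z₂ ^ 2 = 0 → z₁ = 0 ∧ z₂ = 0) :
    Nat.card {v : (Fin n ⊕ Fin n) ⊕ Fin 2 → F // mixForm n (planeQ a b) v = 0} =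
      Fintype.card F ^ (2 * n + 1) + Fintype.card F ^ n - Fintype.card F ^ (n + 1) := by
  rw [mix_plane_coe, ← Nat.card_eq_fintype_card (α := F), show 2 * n + 1 = 2 * (n + 1) - 1 by omega]
  exact OrthCard.count_minus (n + 1) (by omega) hab

variable {k : ℕ} {κ : Type} [Fintype κ] [DecidableEq κ] (Q0 : QuadraticForm F (κ → F))
  (h0 : (QuadraticMap.polarBilin Q0).Nondegenerate)

/-- The ordered pairs spanning a totally singular plane. -/
def SPair (n : ℕ) : Type u :=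
  {p : ((Fin n ⊕ Fin n) ⊕ κ → F) × ((Fin n ⊕ Fin n) ⊕ κ → F) //
    mixForm n Q0 p.1 = 0 ∧ mixForm n Q0 p.2 = 0 ∧ QuadraticMap.polar (⇑(mixForm n Q0)) p.1 p.2 = 0 ∧
      p.1 ≠ 0 ∧ p.2 ∉ Submodule.span F {p.1}}

include h0 in
theorem card_spair : Nat.card (SPair Q0 (k + 1)) =
    (Nat.card {v : (Fin (k + 1) ⊕ Fin (k + 1)) ⊕ κ → F // mixForm (k + 1) Q0 v = 0} - 1) *
      (Fintype.card F * (Nat.card {v : (Fin k ⊕ Fin k) ⊕ κ → F // mixForm k Q0 v = 0} - 1)) := by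
  classical
  set Q := mixForm (k + 1) Q0
  let Fib : ((Fin (k + 1) ⊕ Fin (k + 1)) ⊕ κ → F) → Type u := fun u => {z : ((Fin (k + 1) ⊕ Fin (k + 1)) ⊕ κ → F) // Q z = 0 ∧ QuadraticMap.polar (⇑Q) u z = 0 ∧ z ∉ Submodule.span F {u}}
  have e : SPair Q0 (k + 1) ≃ Σ u : {u : ((Fin (k + 1) ⊕ Fin (k + 1)) ⊕ κ → F) // Q u = 0 ∧ u ≠ 0}, Fib u.1 :=
    { toFun := fun p => ⟨⟨p.1.1, p.2.1, p.2.2.2.2.1⟩, ⟨p.1.2, p.2.2.1, p.2.2.2.1, p.2.2.2.2.2⟩⟩
      invFun := fun x => ⟨(x.1.1, x.2.1), x.1.2.1, x.2.2.1, x.2.2.2.1, x.1.2.2, x.2.2.2.2⟩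
      left_inv := fun p => rfl
      right_inv := fun x => rfl }
  set e0 : ((Fin (k + 1) ⊕ Fin (k + 1)) ⊕ κ → F) := inLp (Pi.single 0 1)
  have he0 : e0 ≠ 0 := fun h => one_ne_zero (α := F) (by simpa [e0, inLp, inL] using congrFun h (Sum.inl (Sum.inl 0)))
  have hfib : ∀ u : {u : ((Fin (k + 1) ⊕ Fin (k + 1)) ⊕ κ → F) // Q u = 0 ∧ u ≠ 0}, Nat.card (Fib u.1) = Nat.card (Fib e0) := by
    intro u
    obtain ⟨g, hg, -, hgu⟩ := WittQuad.exists_move_fix Q (mix_nondegenerate Q0 h0) ⊥ (a := e0) (b := u.1)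
      (by simpa using he0) (by simpa using u.2.2) (by rw [show Q e0 = 0 from mix_inLp Q0 _, u.2.1])
      (fun w hw => by rw [(Submodule.mem_bot F).mp hw]; simp)
    refine (Nat.card_congr (g.toEquiv.subtypeEquiv fun z => ?_)).symm
    show _ ↔ Q (g z) = 0 ∧ QuadraticMap.polar (⇑Q) u.1 (g z) = 0 ∧ g z ∉ Submodule.span F {u.1}
    rw [hg, ← hgu, show QuadraticMap.polar (⇑Q) (g e0) (g z) = QuadraticMap.polar (⇑Q) e0 z by
      simp only [QuadraticMap.polar, ← map_add, hg]]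
    refine and_congr_right fun _ => and_congr_right fun _ => not_congr ?_
    rw [Submodule.mem_span_singleton, Submodule.mem_span_singleton]
    exact exists_congr fun c => by rw [← map_smul, g.injective.eq_iff]
  let dn : ((Fin (k + 1) ⊕ Fin (k + 1)) ⊕ κ → F) → ((Fin k ⊕ Fin k) ⊕ κ → F) := fun z =>
    Sum.elim (Sum.elim (fun i => z (Sum.inl (Sum.inl i.succ))) (fun i => z (Sum.inl (Sum.inr i.succ)))) (z ∘ Sum.inr)
  let up : F → ((Fin k ⊕ Fin k) ⊕ κ → F) → ((Fin (k + 1) ⊕ Fin (k + 1)) ⊕ κ → F) := fun t v =>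
    Sum.elim (Sum.elim (Fin.cons t fun i => v (Sum.inl (Sum.inl i))) (Fin.cons 0 fun i => v (Sum.inl (Sum.inr i))))
      (v ∘ Sum.inr)
  have hpol : ∀ z : ((Fin (k + 1) ⊕ Fin (k + 1)) ⊕ κ → F), QuadraticMap.polar (⇑Q) e0 z = z (Sum.inl (Sum.inr 0)) := fun z => by
    rw [polar_mix, show e0 = Sum.elim (inL (Pi.single 0 1)) 0 from rfl, Sum.elim_comp_inl, Sum.elim_comp_inr,
      QuadraticMap.polar_zero_left, add_zero, polar_inL_left, single_dotProduct, one_mul]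
    rfl
  have hQ : ∀ z : ((Fin (k + 1) ⊕ Fin (k + 1)) ⊕ κ → F), z (Sum.inl (Sum.inr 0)) = 0 → Q z = mixForm k Q0 (dn z) := fun z hz => by
    rw [mix_apply, mix_apply, plus_dot, plus_dot]
    simp [dn, dotProduct, Fin.sum_univ_succ, hz, Function.comp_def]
  have hupdn : ∀ z : ((Fin (k + 1) ⊕ Fin (k + 1)) ⊕ κ → F), z (Sum.inl (Sum.inr 0)) = 0 → up (z (Sum.inl (Sum.inl 0))) (dn z) = z := fun z hz => by
    funext i
    rcases i with (i | i) | i
    · cases i using Fin.cases <;> simp [up, dn]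
    · cases i using Fin.cases <;> simp [up, dn, hz]
    · simp [up, dn]
  have hdnup : ∀ t v, dn (up t v) = v := fun t v => by
    funext i
    rcases i with (i | i) | i <;> simp [up, dn]
  have hspan : ∀ z : ((Fin (k + 1) ⊕ Fin (k + 1)) ⊕ κ → F), z ∈ Submodule.span F {e0} ↔ z (Sum.inl (Sum.inr 0)) = 0 ∧ dn z = 0 := fun z => by
    rw [Submodule.mem_span_singleton]
    constructor
    · rintro ⟨c, rfl⟩
      refine ⟨by simp [e0, inLp, inL, Pi.single_apply], ?_⟩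
      funext i
      rcases i with (i | i) | i <;> simp [dn, e0, inLp, inL, Pi.single_apply]
    · rintro ⟨hz, hd⟩
      refine ⟨z (Sum.inl (Sum.inl 0)), ?_⟩
      conv_rhs => rw [← hupdn z hz, hd]
      funext i
      rcases i with (i | i) | i <;> [cases i using Fin.cases; cases i using Fin.cases; skip] <;>
        simp [up, e0, inLp, inL, Pi.single_apply]
  have e2 : Fib e0 ≃ F × {v : (Fin k ⊕ Fin k) ⊕ κ → F // mixForm k Q0 v = 0 ∧ v ≠ 0} :=
    { toFun := fun z => (z.1 (Sum.inl (Sum.inl 0)), ⟨dn z.1, by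
          rw [← hQ z.1 ((hpol z.1).symm.trans z.2.2.1)]; exact z.2.1,
          fun h => z.2.2.2 ((hspan z.1).mpr ⟨(hpol z.1).symm.trans z.2.2.1, h⟩)⟩)
      invFun := fun p => ⟨up p.1 p.2.1, by rw [hQ _ (by simp [up]), hdnup]; exact p.2.2.1,
        by rw [hpol]; simp [up], fun h => p.2.2.2 (by have := ((hspan _).mp h).2; rwa [hdnup] at this)⟩
      left_inv := fun z => Subtype.ext (hupdn z.1 ((hpol z.1).symm.trans z.2.2.1))
      right_inv := fun p => Prod.ext (by simp [up]) (Subtype.ext (hdnup _ _)) }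
  have hne : ∀ {n : ℕ}, Nat.card {v : (Fin n ⊕ Fin n) ⊕ κ → F // mixForm n Q0 v = 0 ∧ v ≠ 0} =
      Nat.card {v : (Fin n ⊕ Fin n) ⊕ κ → F // mixForm n Q0 v = 0} - 1 := fun {n} => by
    rw [Nat.card_eq_fintype_card, Nat.card_eq_fintype_card, Fintype.card_subtype, Fintype.card_subtype]
    refine (congrArg Finset.card ?_).trans (Finset.card_erase_of_mem
      (Finset.mem_filter.mpr ⟨Finset.mem_univ (0 : (Fin n ⊕ Fin n) ⊕ κ → F), map_zero _⟩))
    ext v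
    simp [and_comm]
  haveI : Finite {u : ((Fin (k + 1) ⊕ Fin (k + 1)) ⊕ κ → F) // Q u = 0 ∧ u ≠ 0} := Subtype.finite
  haveI := Fintype.ofFinite {u : ((Fin (k + 1) ⊕ Fin (k + 1)) ⊕ κ → F) // Q u = 0 ∧ u ≠ 0}
  haveI : ∀ u : {u : ((Fin (k + 1) ⊕ Fin (k + 1)) ⊕ κ → F) // Q u = 0 ∧ u ≠ 0}, Finite (Fib u.1) := fun u => Subtype.finite
  rw [Nat.card_congr e, Nat.card_sigma, Finset.sum_congr rfl fun u _ => hfib u, Finset.sum_const, Finset.card_univ,
    ← Nat.card_eq_fintype_card, smul_eq_mul, Nat.card_congr e2, Nat.card_prod, hne, hne, Nat.card_eq_fintype_card (α := F)]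

include h0 in
theorem class_dvd_spair (hκ : 1 ≤ Fintype.card κ) (hn : 3 ≤ k + 1 + 1) :
    Nat.card {x : OmM (k + 1 + 1) Q0 // IsConj (x01 (k := k) Q0 hn) x} ∣ Nat.card (SPair Q0 (k + 1 + 1)) := by
  classical
  set Q := mixForm (k + 1 + 1) Q0
  set x := x01 (k := k) Q0 hn
  have h7 : 7 ≤ Fintype.card ((Fin (k + 1 + 1) ⊕ Fin (k + 1 + 1)) ⊕ κ) := by
    simp only [Fintype.card_sum, Fintype.card_fin]; omega
  have hx : x = sgM Q0 h0 hn (mix_inLp Q0 (Pi.single 1 1)) (polar_Lp_Lp Q0 _ (Pi.single 0 1)) := xM_wd Q0 h0 hn _ _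
  have hconj : ∀ p : SPair Q0 (k + 1 + 1), IsConj x (sgM Q0 h0 hn p.2.1 p.2.2.2.1) := by
    intro p
    obtain ⟨g, hgu, hgz⟩ := exists_moveM Q0 (u := inLp (Pi.single 1 1)) (z := inLp (Pi.single 0 1))
      (mix_inLp Q0 _) p.2.1 (by rw [mix_inLp, p.2.2.1]) (polar_Lp_Lp Q0 _ _) p.2.2.2.1
      (fun e => one_ne_zero (α := F) (by simpa [inLp, inL] using congrFun e (Sum.inl (Sum.inl 1))))
      p.2.2.2.2.1 single_indep p.2.2.2.2.2 h7 h0
    exact isConj_iff.mpr ⟨g, by rw [hx]; exact Subtype.ext (sgM_conj Q0 h0 hn _ hgu hgz)⟩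
  let Φ : SPair Q0 (k + 1 + 1) → {y : OmM (k + 1 + 1) Q0 // IsConj x y} := fun p => ⟨_, hconj p⟩
  haveI : Finite (SPair Q0 (k + 1 + 1)) := Subtype.finite
  let act : OmM (k + 1 + 1) Q0 → SPair Q0 (k + 1 + 1) → SPair Q0 (k + 1 + 1) := fun g p =>
    ⟨(mat Q g.1 *ᵥ p.1.1, mat Q g.1 *ᵥ p.1.2), by rw [(mem_iff Q).mp g.1.2]; exact p.2.1,
      by rw [(mem_iff Q).mp g.1.2]; exact p.2.2.1, by rw [polar_act]; exact p.2.2.2.1,
      fun h => p.2.2.2.2.1 (by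
        have := congrArg (fun v => mat Q g.1⁻¹ *ᵥ v) h
        simp only [mulVec_zero] at this
        rwa [mulVec_inv_cancel] at this),
      fun h => p.2.2.2.2.2 (by
        obtain ⟨c, hc⟩ := Submodule.mem_span_singleton.mp h
        refine Submodule.mem_span_singleton.mpr ⟨c, ?_⟩
        have := congrArg (fun v => mat Q g.1⁻¹ *ᵥ v) hc
        simp only [mulVec_smul] at this
        rwa [mulVec_inv_cancel, mulVec_inv_cancel] at this)⟩
  have hΦ : ∀ g p, (Φ (act g p)).1 = g * (Φ p).1 * g⁻¹ := fun g p =>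
    (Subtype.ext (sgM_conj Q0 h0 hn g.1 rfl rfl)).symm
  have hact : ∀ g p, act g⁻¹ (act g p) = p := fun g p => Subtype.ext (Prod.ext (mulVec_inv_cancel Q g.1 _)
    (mulVec_inv_cancel Q g.1 _))
  set p0 : SPair Q0 (k + 1 + 1) := ⟨(inLp (Pi.single 1 1), inLp (Pi.single 0 1)), mix_inLp Q0 _, mix_inLp Q0 _,
    polar_Lp_Lp Q0 _ _, fun e => one_ne_zero (α := F) (by simpa [inLp, inL] using congrFun e (Sum.inl (Sum.inl 1))),
    single_indep⟩
  have hfib : ∀ y, Nat.card {p // Φ p = y} = Nat.card {p // Φ p = Φ p0} := by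
    intro y
    obtain ⟨g, hg⟩ := isConj_iff.mp y.2
    have hp0 : (Φ p0).1 = x := hx.symm
    let E : {p // Φ p = Φ p0} ≃ {p // Φ p = y} :=
      { toFun := fun p => ⟨act g p.1, Subtype.ext (by rw [hΦ, p.2, hp0, hg])⟩
        invFun := fun p => ⟨act g⁻¹ p.1, Subtype.ext (by rw [hΦ, p.2, hp0, ← hg]; group)⟩
        left_inv := fun p => Subtype.ext (hact g p.1)
        right_inv := fun p => Subtype.ext ((congrArg (fun g' => act g' (act g⁻¹ p.1)) (inv_inv g)).symm.trans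
          (hact g⁻¹ p.1)) }
    exact (Nat.card_congr E).symm
  haveI := Fintype.ofFinite {y : OmM (k + 1 + 1) Q0 // IsConj x y}
  rw [← Nat.card_congr (Equiv.sigmaFiberEquiv Φ), Nat.card_sigma, Finset.sum_congr rfl fun y _ => hfib y,
    Finset.sum_const, Finset.card_univ, smul_eq_mul, ← Nat.card_eq_fintype_card]
  exact dvd_mul_right _ _

include h0 in
/-- The dimension divides the number of pairs times the trace. -/
theorem dim_dvd_pairs (hκ : 1 ≤ Fintype.card κ) (hn : 3 ≤ k + 1 + 1) {M : Type v} [AddCommGroup M] [Module ℂ M]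
    [FiniteDimensional ℂ M] (ρ : OmM (k + 1 + 1) Q0 →* Module.End ℂ M) (hk : 1 ≤ k) (hirr : IsIrr ρ)
    (hd : 2 ≤ Module.finrank ℂ M)
    (hdim : Module.finrank ℂ M = ff hn (rhoP Q0 ρ) +
      RR F κ * Nat.card {L : Module.Dual F (AltM F (k + 1 + 1)) // Dec L})
    (hdec : ∀ L : Module.Dual F (AltM F (k + 1 + 1)), Dec L → Module.finrank ℂ (Eg hn (rhoP Q0 ρ) L) = RR F κ)
    (hz : ∀ L : Module.Dual F (AltM F (k + 1 + 1)), L ≠ 0 → ¬ Dec L → Eg hn (rhoP Q0 ρ) L = ⊥) :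
    (Module.finrank ℂ M : ℤ) ∣ (Nat.card (SPair Q0 (k + 1 + 1)) : ℤ) *
      ((RR F κ : ℤ) * (Fintype.card F : ℤ) ^ (2 * k + 1)) := by
  set T : ℤ := (Module.finrank ℂ M : ℤ) - (RR F κ : ℤ) * (Fintype.card F : ℤ) ^ (2 * k + 1)
  have hT : LinearMap.trace ℂ M (ρ (x01 (k := k) Q0 hn)) = (T : ℂ) := by
    rw [trace_x01 Q0 hn ρ hk hdim hdec hz]; push_cast [T]; ring
  have h := class_dvd ρ hirr hd (x01 (k := k) Q0 hn) hT
  obtain ⟨c, hc⟩ := class_dvd_spair Q0 h0 hκ hn (k := k)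
  have h' : (Module.finrank ℂ M : ℤ) ∣ (Nat.card (SPair Q0 (k + 1 + 1)) : ℤ) * T := by
    rw [hc, Nat.cast_mul, mul_right_comm]
    exact h.mul_right _
  have e : (Nat.card (SPair Q0 (k + 1 + 1)) : ℤ) * ((RR F κ : ℤ) * (Fintype.card F : ℤ) ^ (2 * k + 1)) =
      (Nat.card (SPair Q0 (k + 1 + 1)) : ℤ) * (Module.finrank ℂ M : ℤ) -
        (Nat.card (SPair Q0 (k + 1 + 1)) : ℤ) * T := by ring
  rw [e]
  exact dvd_sub (dvd_mul_left _ _) h'

end Cfsg.Lib.OrthMinDeg
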