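import Cfsg.Agent.Known.OrthMinDegree.Mixed.Twist
import Cfsg.Agent.Known.OrthTwoGen.Rel

/-! No vector is fixed by the parabolic and the twisted radical. -/

set_option autoImplicit false
set_option linter.unusedSectionVars false
set_option linter.style.haveILetI false

open Matrix Cfsg.Lib.Classical Cfsg.Lib.Classical.Refl Cfsg.Lib.Classical.HypQuad Cfsg.Lib.SLMinDeg

namespace Cfsg.Lib.OrthMinDeg

universe u v

theorem siegel_flip {F : Type u} [Field F] {ι : Type} [Fintype ι] [DecidableEq ι] {Q : QuadraticForm F (ι → F)}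
    {u z : ι → F} (hu : Q u = 0) (hz : Q z = 0) (x : ι → F) : siegelMap Q u z x = siegelMap Q z (-u) x := by
  simp only [siegelMap, QuadraticMap.map_neg, hu, hz, QuadraticMap.polar_neg_left, zero_mul, sub_zero, neg_neg]
  module

variable {F : Type u} [Field F] [Fintype F] {k : ℕ} {κ : Type} [Fintype κ] [DecidableEq κ]
  (Q0 : QuadraticForm F (κ → F)) (h0 : (QuadraticMap.polarBilin Q0).Nondegenerate)

/-- A vector of the second half. -/
def inRp {n : ℕ} (b : Fin n → F) : (Fin n ⊕ Fin n) ⊕ κ → F := Sum.elim (inR b) 0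

theorem mix_inRp {n : ℕ} (b : Fin n → F) : mixForm n Q0 (inRp (κ := κ) b) = 0 := by
  rw [inRp, mix_elim, plus_inR, QuadraticMap.map_zero, add_zero]

theorem split_vec {n : ℕ} (z : (Fin n ⊕ Fin n) ⊕ κ → F) :
    z = inLp (z ∘ Sum.inl ∘ Sum.inl) + inRp (z ∘ Sum.inl ∘ Sum.inr) + inW (z ∘ Sum.inr) := by
  funext i
  rcases i with (i | i) | i <;> simp [inLp, inRp, inW, inL, inR]

theorem polar_Rp_W {n : ℕ} (b : Fin n → F) (w : κ → F) :
    QuadraticMap.polar (⇑(mixForm n Q0)) (inRp b) (inW w) = 0 := by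
  rw [polar_mix]; simp only [inRp, inW, Sum.elim_comp_inl, Sum.elim_comp_inr]
  rw [QuadraticMap.polar_zero_right, QuadraticMap.polar_zero_left, add_zero]

variable {M : Type v} [AddCommGroup M] [Module ℂ M] [FiniteDimensional ℂ M] (hn : 3 ≤ k + 1 + 1)
  (ρ : OmM (k + 1 + 1) Q0 →* Module.End ℂ M)

theorem sigM_uM (w : κ → F) : sigM Q0 (uM Q0 h0 hn (Pi.single 0 1) w) =
    sgM Q0 h0 hn (mix_inRp Q0 (Pi.single (0 : Fin (k + 1 + 1)) (1 : F))) (polar_Rp_W Q0 _ w) := by
  refine Subtype.ext (sgM_conj Q0 h0 hn _ ?_ ?_)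
  · refine (embP_mulVec Q0 swp _ 0).trans ?_
    rw [mat_swp, swap_inL_zero]; rfl
  · refine (embP_mulVec Q0 swp _ w).trans ?_
    rw [mat_swp]
    rfl

include h0 in
/-- A vector fixed by the Levi factor and the radical is zero. -/
theorem fixed_zero (hκ : 1 ≤ Fintype.card κ) (hirr : IsIrr ρ) (hd : 2 ≤ Module.finrank ℂ M)
    (hf : ff hn (rhoP Q0 ρ) + 1 < Fintype.card F ^ (k + 1 + 1))
    (hf' : ff hn (rhoP Q0 (twM Q0 ρ)) + 1 < Fintype.card F ^ (k + 1 + 1))
    {x : M} (hx : x ∈ Eg hn (rhoP Q0 ρ) 0)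
    (hfix : ∀ g : Matrix.SpecialLinearGroup (Fin (k + 1 + 1)) F, ρ (lvM Q0 hn g) x = x) : x = 0 := by
  classical
  by_contra hx0
  set Q := mixForm (k + 1 + 1) Q0
  set K := fixSub ρ ({x} : Set M)
  set K' := K.map (Cfsg.Omega F (⇑Q)).subtype
  have hmem : ∀ g : OmM (k + 1 + 1) Q0, ρ g x = x → g ∈ K := fun g h y hy => by
    rw [Set.mem_singleton_iff.mp hy]; exact h
  have hx' : x ∈ Eg hn (rhoP Q0 (twM Q0 ρ)) 0 := by
    rw [rhoP_twM]
    exact mem_twist_zero hn (rhoP Q0 ρ) (fun i j c _ _ => (mem_Eg_zero hn _).mp hx _) fun j hj c => hfix _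
  set e0 : Fin (k + 1 + 1) → F := Pi.single 0 1
  set f0 : (Fin (k + 1 + 1) ⊕ Fin (k + 1 + 1)) ⊕ κ → F := inRp e0
  have hlv : ∀ g, lvM Q0 hn g ∈ K := fun g => hmem _ (hfix g)
  have hg0 : ∀ w, sgM Q0 h0 hn (mix_inRp Q0 e0) (polar_Rp_W Q0 e0 w) ∈ K := fun w => hmem _ (by
    rw [← sigM_uM Q0 h0 hn w, ← twM_apply]
    exact uM_trivial Q0 hn (twM Q0 ρ) h0 hf' e0 w hx')
  let Pm : ((Fin (k + 1 + 1) ⊕ Fin (k + 1 + 1)) ⊕ κ → F) → ((Fin (k + 1 + 1) ⊕ Fin (k + 1 + 1)) ⊕ κ → F) → Prop :=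
    fun u z => ∃ (hu : Q u = 0) (huz : QuadraticMap.polar (⇑Q) u z = 0), siegelG Q hu huz ∈ K'
  have hS : ∀ {u z} {hu : Q u = 0} {huz : QuadraticMap.polar (⇑Q) u z = 0}, sgM Q0 h0 hn hu huz ∈ K → Pm u z :=
    fun {u z hu huz} h => ⟨hu, huz, Subgroup.mem_map.mpr ⟨_, h, rfl⟩⟩
  have hadd : ∀ {u z z'}, Pm u z → Pm u z' → Pm u (z + z') := by
    rintro u z z' ⟨hu, huz, h⟩ ⟨_, huz', h'⟩
    refine ⟨hu, by rw [QuadraticMap.polar_add_right, huz, huz', add_zero], ?_⟩
    rw [← siegelG_mul Q hu huz huz']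
    exact mul_mem h h'
  have hzero : ∀ {u}, Q u = 0 → Pm u 0 := by
    intro u hu
    refine ⟨hu, by rw [QuadraticMap.polar_zero_right], ?_⟩
    rw [show siegelG Q hu _ = 1 from ext_mulVec Q fun y => by
      rw [mat_siegelG, siegelMap]
      simp [show mat Q (1 : Cfsg.isometryGroup F (⇑Q)) = 1 from rfl]]
    exact one_mem _
  have hmap : ∀ {u u' z z'}, (∀ y, siegelMap Q u z y = siegelMap Q u' z' y) → Q u' = 0 →
      QuadraticMap.polar (⇑Q) u' z' = 0 → Pm u z → Pm u' z' := by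
    rintro u u' z z' hy hu' huz' ⟨hu, huz, h⟩
    refine ⟨hu', huz', ?_⟩
    rw [← show siegelG Q hu huz = siegelG Q hu' huz' from ext_mulVec Q fun y => by rw [mat_siegelG, mat_siegelG, hy]]
    exact h
  have hsum : ∀ {u}, Q u = 0 → ∀ (b : Fin (k + 1 + 1) → F) (emb' : (Fin (k + 1 + 1) → F) →
      ((Fin (k + 1 + 1) ⊕ Fin (k + 1 + 1)) ⊕ κ → F)), emb' 0 = 0 → (∀ p r, emb' (p + r) = emb' p + emb' r) →
      (∀ i, Pm u (emb' (Pi.single i (b i)))) → Pm u (emb' b) := by
    intro u hu b emb' he0 he hb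
    suffices ∀ s : Finset (Fin (k + 1 + 1)), Pm u (emb' (∑ i ∈ s, Pi.single i (b i))) by
      have h := this Finset.univ
      rwa [Finset.univ_sum_single] at h
    intro s
    induction s using Finset.induction with
    | empty => rw [Finset.sum_empty, he0]; exact hzero hu
    | insert i s hi ih => rw [Finset.sum_insert hi, he]; exact hadd (hb i) ih
  have hinRp_add : ∀ p r : Fin (k + 1 + 1) → F, inRp (κ := κ) (p + r) = inRp p + inRp r := fun p r => by
    funext i; rcases i with (i | i) | i <;> simp [inRp, inR]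
  have hinLp_add : ∀ p r : Fin (k + 1 + 1) → F, inLp (κ := κ) (p + r) = inLp p + inLp r := fun p r => by
    funext i; rcases i with (i | i) | i <;> simp [inLp, inL]
  have hinRp_smul : ∀ (c : F) (p : Fin (k + 1 + 1) → F), inRp (κ := κ) (c • p) = c • inRp p := fun c p => by
    funext i; rcases i with (i | i) | i <;> simp [inRp, inR]
  have hinLp_smul : ∀ (c : F) (p : Fin (k + 1 + 1) → F), inLp (κ := κ) (c • p) = c • inLp p := fun c p => by
    funext i; rcases i with (i | i) | i <;> simp [inLp, inL]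
  have hsm : ∀ (c : F) (j : Fin (k + 1 + 1)), (Pi.single j c : Fin (k + 1 + 1) → F) = c • Pi.single j 1 := fun c j => by
    rw [← Pi.single_smul, smul_eq_mul, mul_one]
  have hLR : ∀ a b : Fin (k + 1 + 1) → F, QuadraticMap.polar (⇑Q) (inLp a) (inRp b) = a ⬝ᵥ b := fun a b => by
    rw [polar_mix]; simp only [inLp, inRp, Sum.elim_comp_inl, Sum.elim_comp_inr]
    rw [polar_inL_inR, QuadraticMap.polar_zero_right, add_zero]
  have hRR : ∀ a b : Fin (k + 1 + 1) → F, QuadraticMap.polar (⇑Q) (inRp a) (inRp b) = 0 := fun a b => by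
    rw [polar_mix]; simp only [inRp, Sum.elim_comp_inl, Sum.elim_comp_inr]
    rw [polar_inR_inR, QuadraticMap.polar_zero_right, add_zero]
  -- the first centre
  have hE : (inLp e0 : (Fin (k + 1 + 1) ⊕ Fin (k + 1 + 1)) ⊕ κ → F) ∈ sCentres Q K' := by
    refine ⟨mix_inLp Q0 e0, fun z hz => ?_⟩
    set b := z ∘ Sum.inl ∘ Sum.inr
    have hb0 : b 0 = 0 := by
      rw [polar_mix, inLp, Sum.elim_comp_inl, Sum.elim_comp_inr, QuadraticMap.polar_zero_left, add_zero,
        polar_inL_left, single_dotProduct, one_mul] at hz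
      exact hz
    have hR : Pm (inLp e0) (inRp b) := by
      refine hsum (mix_inLp Q0 e0) b inRp (by funext i; rcases i with (i | i) | i <;> simp [inRp, inR]) hinRp_add
        fun j => ?_
      by_cases hj : j = 0
      · subst hj; rw [hb0, Pi.single_zero, show inRp (κ := κ) (0 : Fin (k + 1 + 1) → F) = 0 by
          funext i; rcases i with (i | i) | i <;> simp [inRp, inR]]
        exact hzero (mix_inLp Q0 e0)
      have hp : QuadraticMap.polar (⇑Q) (inLp (Pi.single 0 (- -b j))) (Sum.elim (inR (Pi.single j 1)) 0) = 0 := by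
        show QuadraticMap.polar (⇑Q) _ (inRp _) = 0
        rw [hLR, single_dotProduct, Pi.single_eq_of_ne (Ne.symm hj), mul_zero]
      have h1 := hlv (Matrix.SpecialLinearGroup.transvection (Ne.symm hj) (-b j))
      rw [lvM_transvection Q0 h0 hn _ _ hp] at h1
      refine hmap (fun y => ?_) (mix_inLp Q0 e0) (by
        rw [hLR, single_dotProduct, Pi.single_eq_of_ne (Ne.symm hj), mul_zero]) (hS h1)
      rw [neg_neg, hsm (b j) 0, hinLp_smul, OrthTwoGen.siegel_smul_left, hsm (b j) j, hinRp_smul]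
      rfl
    have hW : Pm (inLp e0) (inW (z ∘ Sum.inr)) :=
      hS (hu := mix_inLp Q0 e0) (huz := polar_Lp_W Q0 e0 _) (hmem _ (uM_trivial Q0 hn ρ h0 hf e0 _ hx))
    have hL : Pm (inLp e0) (inLp (z ∘ Sum.inl ∘ Sum.inl)) := by
      refine hS (hu := mix_inLp Q0 e0) (huz := polar_Lp_Lp Q0 e0 _) ?_
      rw [← xM_wd Q0 h0 hn]
      exact hmem _ ((mem_Eg_zero hn (rhoP Q0 ρ)).mp hx _)
    obtain ⟨hu, huz, h⟩ := hadd (hadd hL hR) hW
    convert h using 2
    exact split_vec z
  -- the opposite centre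
  have hF : f0 ∈ sCentres Q K' := by
    refine ⟨mix_inRp Q0 e0, fun z hz => ?_⟩
    set a := z ∘ Sum.inl ∘ Sum.inl
    have ha0 : a 0 = 0 := by
      rw [polar_mix, show f0 = Sum.elim (inR e0) 0 from rfl, Sum.elim_comp_inl, Sum.elim_comp_inr,
        QuadraticMap.polar_zero_left, add_zero, polar_inR_left, single_dotProduct, one_mul] at hz
      exact hz
    have hL : Pm f0 (inLp a) := by
      refine hsum (mix_inRp Q0 e0) a inLp inLp_zero hinLp_add fun j => ?_
      by_cases hj : j = 0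
      · subst hj; rw [ha0, Pi.single_zero, inLp_zero]
        exact hzero (mix_inRp Q0 e0)
      have hp : QuadraticMap.polar (⇑Q) (inLp (Pi.single j (-a j))) (Sum.elim (inR (Pi.single 0 1)) 0) = 0 := by
        show QuadraticMap.polar (⇑Q) _ (inRp _) = 0
        rw [hLR, single_dotProduct, Pi.single_eq_of_ne hj, mul_zero]
      have h1 := hlv (Matrix.SpecialLinearGroup.transvection hj (a j))
      rw [lvM_transvection Q0 h0 hn _ _ hp] at h1
      refine hmap (fun y => ?_) (mix_inRp Q0 e0) (by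
        rw [QuadraticMap.polar_comm, hLR, single_dotProduct]; simp [e0, hj]) (hS h1)
      have hneg : ∀ p : Fin (k + 1 + 1) → F, -inLp (κ := κ) (-p) = inLp p := fun p => by
        funext i; rcases i with (i | i) | i <;> simp [inLp, inL]
      rw [siegel_flip (mix_inLp Q0 _) (by exact mix_inRp Q0 e0), Pi.single_neg, hneg]
      rfl
    have hR : Pm f0 (inRp (z ∘ Sum.inl ∘ Sum.inr)) := by
      refine hsum (mix_inRp Q0 e0) _ inRp (by funext i; rcases i with (i | i) | i <;> simp [inRp, inR]) hinRp_add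
        fun j => ?_
      set c := (z ∘ Sum.inl ∘ Sum.inr) j
      by_cases hj : j = 0
      · subst hj
        refine hmap (z := 0) (fun y => ?_) (mix_inRp Q0 e0) (hRR _ _) (hzero (mix_inRp Q0 e0))
        rw [siegel_flip (mix_inRp Q0 e0) (QuadraticMap.map_zero Q), hsm c 0, hinRp_smul]
        simp only [siegelMap, QuadraticMap.polar_smul_left, QuadraticMap.map_smul, QuadraticMap.polar_zero_left,
          show Q (inRp (κ := κ) (Pi.single 0 1)) = 0 from mix_inRp Q0 _, show f0 = inRp (Pi.single 0 1) from rfl, smul_eq_mul, mul_zero,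
          QuadraticMap.polar_neg_left, zero_mul, sub_zero, neg_neg]
        module
      haveI : Nonempty κ := Fintype.card_pos_iff.mp (by omega)
      obtain ⟨w, w', hww⟩ : ∃ w w', QuadraticMap.polar (⇑Q0) w w' = c := by
        obtain ⟨w, hw⟩ := exists_ne (0 : κ → F)
        obtain ⟨v, hv⟩ : ∃ v, QuadraticMap.polar (⇑Q0) w v ≠ 0 := by
          by_contra hc
          push Not at hc
          exact hw (h0.1 w hc)
        exact ⟨w, (c / QuadraticMap.polar (⇑Q0) w v) • v, by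
          rw [QuadraticMap.polar_smul_right, smul_eq_mul, div_mul_cancel₀ _ hv]⟩
      obtain ⟨g, hg⟩ := exists_vecMul_eq (v := (Pi.single j 1 : Fin (k + 1 + 1) → F)) (by simp) 0 ⟨1, by simp⟩
      have hgj : mat Q (lvM Q0 hn g).1 *ᵥ inRp e0 = inRp (Pi.single j 1) := by
        refine (embP_mulVec Q0 (lvG hn g).1 (inR e0) 0).trans ?_
        rw [show (lvG hn g).1 = lvI (Matrix.SpecialLinearGroup.toGL g) from rfl, mat_lvI, inR, fromBlocks_mulVec,
          Sum.elim_comp_inl, Sum.elim_comp_inr, zero_mulVec, mulVec_zero, add_zero, zero_mulVec, zero_add,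
          mulVec_transpose, ← map_inv, inRp, inR, show e0 = Pi.single 0 1 from rfl]
        congr 2
        conv_lhs => rw [← hg]
        rw [show ((Matrix.SpecialLinearGroup.toGL g⁻¹ : GL (Fin (k + 1 + 1)) F) :
            Matrix (Fin (k + 1 + 1)) (Fin (k + 1 + 1)) F) =
          ((g⁻¹ : Matrix.SpecialLinearGroup (Fin (k + 1 + 1)) F) : Matrix (Fin (k + 1 + 1)) (Fin (k + 1 + 1)) F) from rfl,
          vecMul_vecMul, ← Matrix.SpecialLinearGroup.coe_mul, mul_inv_cancel, Matrix.SpecialLinearGroup.coe_one,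
          vecMul_one]
      have hgw : ∀ v : κ → F, mat Q (lvM Q0 hn g).1 *ᵥ inW v = inW v := fun v => by
        refine (embP_mulVec Q0 (lvG hn g).1 0 v).trans ?_
        rw [mulVec_zero]; rfl
      have hh : lvM Q0 hn g * sgM Q0 h0 hn (mix_inRp Q0 e0) (polar_Rp_W Q0 e0 w') * (lvM Q0 hn g)⁻¹ =
          sgM Q0 h0 hn (mix_inRp Q0 (Pi.single j (1 : F))) (polar_Rp_W Q0 _ w') :=
        Subtype.ext (sgM_conj Q0 h0 hn _ hgj (hgw w'))
      have hhK : sgM Q0 h0 hn (mix_inRp Q0 (Pi.single j (1 : F))) (polar_Rp_W Q0 _ w') ∈ K :=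
        hh ▸ mul_mem (mul_mem (hlv g) (hg0 w')) (inv_mem (hlv g))
      have hcomm := mul_mem (inv_mem hhK) (mul_mem (mul_mem (hg0 w) hhK) (inv_mem (hg0 w)))
      have hnew : mat Q (sgM Q0 h0 hn (mix_inRp Q0 e0) (polar_Rp_W Q0 e0 w)).1 *ᵥ inW w' =
          inW w' + (-c) • f0 := by
        simp only [sgM, mat_siegelG, siegelMap, polar_W_W, hww, polar_Rp_W, zero_smul, mul_zero, sub_zero, add_zero,
          show f0 = inRp e0 from rfl]
      have hfj : mat Q (sgM Q0 h0 hn (mix_inRp Q0 e0) (polar_Rp_W Q0 e0 w)).1 *ᵥ inRp (Pi.single j 1) =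
          inRp (Pi.single j 1) := by
        simp only [sgM, mat_siegelG, siegelMap]
        rw [show QuadraticMap.polar (⇑(mixForm (k + 1 + 1) Q0)) (inRp e0) (inRp (Pi.single j 1)) = 0 from hRR _ _,
          QuadraticMap.polar_comm (⇑(mixForm (k + 1 + 1) Q0)) (inW w), polar_Rp_W]
        simp
      have hp2 : QuadraticMap.polar (⇑Q) (inRp (Pi.single j 1)) ((-c) • f0) = 0 := by
        rw [QuadraticMap.polar_smul_right, hRR, smul_zero]
      have he : (sgM Q0 h0 hn (mix_inRp Q0 (Pi.single j (1 : F))) (polar_Rp_W Q0 _ w'))⁻¹ *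
          (sgM Q0 h0 hn (mix_inRp Q0 e0) (polar_Rp_W Q0 e0 w) *
            sgM Q0 h0 hn (mix_inRp Q0 (Pi.single j (1 : F))) (polar_Rp_W Q0 _ w') *
            (sgM Q0 h0 hn (mix_inRp Q0 e0) (polar_Rp_W Q0 e0 w))⁻¹) =
          sgM Q0 h0 hn (mix_inRp Q0 (Pi.single j (1 : F))) hp2 := by
        rw [inv_mul_eq_iff_eq_mul]
        refine Subtype.ext ?_
        simp only [Subgroup.coe_mul, Subgroup.coe_inv]
        refine (sgM_conj Q0 h0 hn _ (hu' := mix_inRp Q0 _) (huz' := by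
          rw [QuadraticMap.polar_add_right, polar_Rp_W, hp2, add_zero]) hfj hnew).trans ?_
        exact (siegelG_mul Q (mix_inRp Q0 (Pi.single j (1 : F))) (polar_Rp_W Q0 _ w') hp2).symm
      rw [he] at hcomm
      refine hmap (fun y => ?_) (mix_inRp Q0 e0) (hRR _ _) (hS hcomm)
      rw [siegel_flip (mix_inRp Q0 _) (by rw [QuadraticMap.map_smul, show Q f0 = 0 from mix_inRp Q0 e0, smul_zero]),
        OrthTwoGen.siegel_smul_left, hsm c j, hinRp_smul, neg_smul, smul_neg, neg_neg]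
    have hW : Pm f0 (inW (z ∘ Sum.inr)) := hS (hu := mix_inRp Q0 e0) (huz := polar_Rp_W Q0 e0 _) (hg0 _)
    obtain ⟨hu, huz, h⟩ := hadd (hadd hL hR) hW
    convert h using 2
    exact split_vec z
  have hle := OrthTwoGen.omega_le (mix_nondegenerate Q0 h0) (card_idxM hn) hE hF (by
    show QuadraticMap.polar (⇑Q) _ (inRp e0) ≠ 0
    rw [hLR, single_dotProduct, one_mul]; simp [e0])
  have hall : ∀ g, ρ g x = x := fun g => by
    obtain ⟨g', hg', e⟩ := hle g.2
    rw [← (Subtype.ext e : g' = g)]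
    exact hg' x rfl
  rcases hirr (Submodule.span ℂ {x}) (fun g y hy => by
    obtain ⟨c, rfl⟩ := Submodule.mem_span_singleton.mp hy
    rw [map_smul, hall]; exact hy) with h | h
  · exact hx0 (Submodule.span_singleton_eq_bot.mp h)
  · have := finrank_span_singleton (K := ℂ) hx0
    rw [h, finrank_top] at this
    omega

end Cfsg.Lib.OrthMinDeg
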