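import Cfsg.Agent.Known.OrthMinDegree.Minus.TwistLower
import Cfsg.Agent.Chars.Count

/-! The representations of `SL₃` of degree `q²` without fixed vectors and with vanishing transvection traces. -/

set_option autoImplicit false
set_option linter.unusedSectionVars false
set_option linter.style.haveILetI false

open Matrix Cfsg.Lib.SLMinDeg
open scoped commutatorElement

namespace Cfsg.Lib.OrthMinDeg

universe u v w

section Gen

variable {G : Type u} [Group G] {M : Type v} [AddCommGroup M] [Module ℂ M] [FiniteDimensional ℂ M]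
  (σ : G →* Module.End ℂ M)

/-- An element normalising the family maps its fixed space into itself. -/
theorem fix_map {A : Type w} [AddCommGroup A] [Fintype A] {f : A → G} {h : G}
    (hh : ∀ a, ∃ b, h⁻¹ * f a * h = f b) {x : M} (hx : x ∈ RepEigen.eig σ f (1 : AddChar A ℂ)) :
    σ h x ∈ RepEigen.eig σ f (1 : AddChar A ℂ) := by
  rw [RepEigen.mem_eig] at hx ⊢
  intro a
  obtain ⟨b, hb⟩ := hh a
  have e := hx b
  rw [AddChar.one_apply, one_smul] at e ⊢
  rw [← Module.End.mul_apply, ← map_mul σ, show f a * h = h * f b by rw [← hb]; group, map_mul σ, Module.End.mul_apply,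
    e]

/-- Too small to split. -/
theorem irr_of_small [Finite G] (hperf : commutator G = ⊤) {L : ℕ} (hP : DimProp.{u, v} G fun d => L ≤ d)
    (hnf : ∀ x : M, (∀ g, σ g x = x) → x = 0) (hlt : Module.finrank ℂ M < 2 * L) : IsIrr σ := by
  intro U hU
  by_contra hc
  push Not at hc
  obtain ⟨T, hT⟩ := Cfsg.Lib.Chars.exists_isCompl_subrep (σ : Representation ℂ G M)
    { toSubmodule := U, apply_mem_toSubmodule := fun g v hv => hU g v hv }
  have hge : ∀ X : Submodule ℂ M, (∀ g, ∀ x ∈ X, σ g x ∈ X) → X ≠ ⊥ → L ≤ Module.finrank ℂ X := by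
    intro X hX hne
    rcases nofix_dim σ hperf hP (fun _ h => h) hX hne (fun x _ => hnf x) with h | h <;> omega
  have hT0 : T.toSubmodule ≠ ⊥ := fun h => hc.2 (by
    have := hT.sup_eq_top
    rwa [h, sup_bot_eq] at this)
  have h1 := hge U hU hc.1
  have h2 := hge T.toSubmodule (fun g x hx => T.apply_mem_toSubmodule g hx) hT0
  have h3 := Submodule.finrank_add_eq_of_isCompl hT
  change Module.finrank ℂ U + Module.finrank ℂ T.toSubmodule = _ at h3
  omega

theorem isIrreducible_of_isIrr (hirr : IsIrr σ) (hd : 0 < Module.finrank ℂ M) :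
    Representation.IsIrreducible (σ : Representation ℂ G M) := by
  haveI : Nontrivial M := Module.nontrivial_of_finrank_pos hd
  refine { exists_pair_ne := ⟨⊥, ⊤, fun h => bot_ne_top (congrArg Subrepresentation.toSubmodule h)⟩,
           eq_bot_or_eq_top := fun W => ?_ }
  rcases hirr W.toSubmodule (fun g x hx => W.apply_mem_toSubmodule g hx) with h | h
  · exact Or.inl (Subrepresentation.toSubmodule_injective h)
  · exact Or.inr (Subrepresentation.toSubmodule_injective h)

/-- A non-trivial character value leaves room for the trivial one only. -/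
theorem norm_sq_lt_centralizer [Finite G] (hirr : IsIrr σ) (hd : 2 ≤ Module.finrank ℂ M) (g : G) :
    ‖LinearMap.trace ℂ M (σ g)‖ ^ 2 + 1 ≤ (Nat.card (Subgroup.centralizer ({g} : Set G)) : ℝ) := by
  classical
  haveI := isIrreducible_of_isIrr σ hirr (by omega)
  let one' : G →* Module.End ℂ ℂ := 1
  haveI : Representation.IsIrreducible (one' : Representation ℂ G ℂ) := by
    refine isIrreducible_of_isIrr one' (fun U _ => ?_) (by simp)
    have hle := Submodule.finrank_le U
    rw [Module.finrank_self] at hle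
    rcases Nat.eq_zero_or_pos (Module.finrank ℂ U) with h | h
    · exact Or.inl (Submodule.finrank_eq_zero.mp h)
    · exact Or.inr (Submodule.eq_top_of_finrank_eq (by rw [Module.finrank_self]; omega))
  let χ : Cfsg.IrrCharacter G :=
    ⟨Representation.character (σ : Representation ℂ G M), Cfsg.Lib.Chars.isIrrCharacter_character _⟩
  let χ₁ : Cfsg.IrrCharacter G :=
    ⟨Representation.character (one' : Representation ℂ G ℂ), Cfsg.Lib.Chars.isIrrCharacter_character _⟩
  have hne : χ ≠ χ₁ := fun e => by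
    have h := congrFun (congrArg Subtype.val e) 1
    simp only [χ, χ₁, Representation.char_one, Module.finrank_self, Nat.cast_one] at h
    norm_cast at h
    omega
  rw [← Cfsg.Lib.Chars.sum_norm_sq_irr g]
  refine le_trans (le_of_eq ?_) (Finset.sum_le_sum_of_subset_of_nonneg (Finset.subset_univ ({χ, χ₁} : Finset _))
    fun i _ _ => by positivity)
  rw [Finset.sum_pair hne]
  congr 1
  show (1 : ℝ) = ‖LinearMap.trace ℂ ℂ (1 : Module.End ℂ ℂ)‖ ^ 2
  rw [LinearMap.trace_one, Module.finrank_self, Nat.cast_one, norm_one, one_pow]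

end Gen

variable {F : Type u} [Field F] [Fintype F] {W : Type v} [AddCommGroup W] [Module ℂ W] [FiniteDimensional ℂ W]
  (τ : Matrix.SpecialLinearGroup (Fin (1 + 1 + 1)) F →* Module.End ℂ W)
  (hnf : ∀ x : W, (∀ g, τ g x = x) → x = 0) (hd : Module.finrank ℂ W = Fintype.card F ^ 2)
  (htr : ∀ c : F, c ≠ 0 → LinearMap.trace ℂ W (τ (lineT c)) = 0)

/-- The row group of the second vector. -/
noncomputable def tB (β : Fin 2 → F) : Matrix.SpecialLinearGroup (Fin (1 + 1 + 1)) F :=
  tv (Pi.single 1 1) ![β 0, 0, β 1] (by rw [dotProduct_single, mul_one]; rfl)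

theorem tB_add (a b : Fin 2 → F) : tB (a + b) = tB a * tB b := by
  rw [tB, tB, tB, ← tv_add_right]
  refine tv_congr rfl ?_
  funext i; fin_cases i <;> simp

include hd htr

theorem col_line : Module.finrank ℂ (RepEigen.eig τ (tA (F := F) (k := 1)) (1 : AddChar (Fin (1 + 1) → F) ℂ)) = 1 := by
  have h := finrank_eig_one_of_trace τ (f := tA (F := F) (k := 1)) tA_add (τ := 0) fun β hβ => by
    obtain ⟨g, hg⟩ := exists_mulVec_eq hβ 0 ⟨1, by simp⟩
    rw [← hg, ← emb_tA, trace_eq_of_isConj τ (isConj_iff.mpr ⟨(emb g)⁻¹, by group⟩ :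
      IsConj (emb g * tA (Pi.single (0 : Fin (1 + 1)) (1 : F)) * (emb g)⁻¹) (tA (Pi.single 0 1))),
      ← lineT_eq_tA, htr 1 one_ne_zero]
  rw [mul_zero, add_zero, hd, Fintype.card_fun, Fintype.card_fin] at h
  have h0 : ((Fintype.card F ^ 2 : ℕ) : ℂ) ≠ 0 := Nat.cast_ne_zero.mpr (pow_ne_zero _ Fintype.card_ne_zero)
  exact_mod_cast mul_left_cancel₀ h0 (h.trans (mul_one _).symm)

theorem row_line : Module.finrank ℂ (RepEigen.eig τ (tB (F := F)) (1 : AddChar (Fin 2 → F) ℂ)) = 1 := by
  classical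
  have key : ∀ β : Fin 2 → F, β 0 ≠ 0 → LinearMap.trace ℂ W (τ (tB β)) = 0 := fun β h0 => by
    let h := Matrix.SpecialLinearGroup.transvection (show (0 : Fin (1 + 1 + 1)) ≠ 2 by decide) (β 1 / β 0)
    have e : h * tB β * h⁻¹ = lineT (β 0) := by
      rw [tB, tv_conj, lineT, ← tv_single (show (1 : Fin (1 + 1 + 1)) ≠ 0 by decide) (β 0)
        (single_dot_single (by decide) _ _)]
      refine tv_congr ?_ ?_
      · rw [mulVec_transvection]; simp
      · rw [Matrix.SpecialLinearGroup.transvection_inv, vecMul_transvection]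
        funext i; fin_cases i <;> simp [mul_div_cancel₀ _ h0]
    rw [trace_eq_of_isConj τ (isConj_iff.mpr ⟨h, e⟩ : IsConj (tB β) (lineT (β 0))), htr _ h0]
  have h := finrank_eig_one_of_trace τ (f := tB (F := F)) tB_add (τ := 0) fun β hβ => by
    by_cases h0 : β 0 = 0
    · have h1 : β 1 ≠ 0 := fun e => hβ (funext fun i => by fin_cases i <;> assumption)
      let h := Matrix.SpecialLinearGroup.transvection (show (2 : Fin (1 + 1 + 1)) ≠ 0 by decide) (1 : F)
      have e : h * tB β * h⁻¹ = tB ![-β 1, β 1] := by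
        rw [tB, tB, tv_conj]
        refine tv_congr ?_ ?_
        · rw [mulVec_transvection]; simp
        · rw [Matrix.SpecialLinearGroup.transvection_inv, vecMul_transvection]
          funext i; fin_cases i <;> simp [h0]
      rw [trace_eq_of_isConj τ (isConj_iff.mpr ⟨h, e⟩ : IsConj (tB β) (tB ![-β 1, β 1])),
        key _ (by simpa using h1)]
    · exact key β h0
  rw [mul_zero, add_zero, hd, Fintype.card_fun, Fintype.card_fin] at h
  have h0 : ((Fintype.card F ^ 2 : ℕ) : ℂ) ≠ 0 := Nat.cast_ne_zero.mpr (pow_ne_zero _ Fintype.card_ne_zero)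
  exact_mod_cast mul_left_cancel₀ h0 (h.trans (mul_one _).symm)

include hnf

/-- Fields with more than three elements. -/
theorem sl3_big (hq : 3 < Fintype.card F) : False := by
  classical
  obtain ⟨t, ht0, ht⟩ := exists_pow_ne_one (F := F) (k := 2) (fun h => by
    have := Nat.le_of_dvd (by norm_num) h; omega)
  have hL0 := col_line τ hd htr
  have hL1 := row_line τ hd htr
  set L0 := RepEigen.eig τ (tA (F := F) (k := 1)) (1 : AddChar (Fin (1 + 1) → F) ℂ)
  set L1 := RepEigen.eig τ (tB (F := F)) (1 : AddChar (Fin 2 → F) ℂ)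
  have hdia0 : ∀ d : Fin (1 + 1 + 1) → F, ∀ hd' : ∏ i, d i = 1, ∀ x ∈ L0, τ (dia d hd') x ∈ L0 := fun d hd' x hx => by
    have hi : ∏ i, (d i)⁻¹ = 1 := by rw [Finset.prod_inv_distrib, hd', inv_one]
    refine fix_map τ (fun a => ⟨fun i => (d i.succ)⁻¹ * a i * d 0, ?_⟩) hx
    rw [show (dia d hd' : Matrix.SpecialLinearGroup (Fin (1 + 1 + 1)) F)⁻¹ * tA a * dia d hd' =
      (dia d hd')⁻¹ * tA a * ((dia d hd')⁻¹)⁻¹ by rw [inv_inv], tA, tA, tv_conj]
    refine sl_ext ?_
    rw [coe_tv, coe_tv, inv_inv, dia_inv d hd' hi, coe_dia, coe_dia]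
    congr 1
    ext i j
    rw [vecMulVec_apply, vecMulVec_apply, mulVec_diagonal, vecMul_diagonal]
    by_cases hj : j = 0
    · subst hj; cases i using Fin.cases <;> simp [mul_assoc, mul_comm, mul_left_comm]
    · simp [Pi.single_eq_of_ne hj]
  obtain ⟨x0, hx0, hx00⟩ := Submodule.exists_mem_ne_zero_of_ne_bot (p := L0) fun h => by
    rw [h, finrank_bot] at hL0; omega
  let K := fixSub τ ({x0} : Set W)
  have hK : ∀ g, τ g x0 = x0 → g ∈ K := fun g h y hy => by rw [Set.mem_singleton_iff.mp hy]; exact h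
  have htor : ∀ {L : Submodule ℂ W}, Module.finrank ℂ L = 1 → x0 ∈ L →
      (∀ d : Fin (1 + 1 + 1) → F, ∀ hd' : ∏ i, d i = 1, ∀ x ∈ L, τ (dia d hd') x ∈ L) →
      ∀ (i j : Fin (1 + 1 + 1)) (hij : i ≠ j), (∀ c, ∀ x ∈ L, τ (Matrix.SpecialLinearGroup.transvection hij c) x ∈ L) →
      ∀ c, Matrix.SpecialLinearGroup.transvection hij c ∈ K := by
    intro L hL hxL hdia i j hij hT c
    let d : Fin (1 + 1 + 1) → F := Function.update (Function.update 1 i t) j t⁻¹
    have hd' : ∏ l, d l = 1 := by
      rw [Finset.prod_update_of_mem (Finset.mem_univ _), Finset.prod_update_of_mem (by simp [hij])]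
      simp [ht0]
    have hne : d i * (d j)⁻¹ - 1 ≠ 0 := by
      simp only [d, Function.update_self, Function.update_of_ne hij, inv_inv]
      rw [sub_ne_zero, ← sq]; exact ht
    refine hK _ ?_
    rw [← mul_div_cancel₀ c hne, ← transvection_comm_dia d hd' hij]
    exact comm_fix τ hL (hdia d hd') (hT _) hxL
  have hT0 : ∀ (i j : Fin (1 + 1 + 1)) (hij : i ≠ j), i ≠ 0 → ∀ c, ∀ x ∈ L0,
      τ (Matrix.SpecialLinearGroup.transvection hij c) x ∈ L0 := fun i j hij hi c x hx => by
    set h := Matrix.SpecialLinearGroup.transvection hij c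
    refine fix_map τ (fun a => ⟨Fin.tail ((Matrix.SpecialLinearGroup.transvection hij (-c) :
      Matrix (Fin (1 + 1 + 1)) (Fin (1 + 1 + 1)) F) *ᵥ Fin.cons 0 a), ?_⟩) hx
    rw [show h⁻¹ * tA a * h = h⁻¹ * tA a * (h⁻¹)⁻¹ by rw [inv_inv], tA, tA, tv_conj]
    refine tv_congr ?_ ?_
    · rw [Matrix.SpecialLinearGroup.transvection_inv, mulVec_transvection]
      funext l; cases l using Fin.cases <;> simp [Fin.tail, Ne.symm hi]
    · rw [inv_inv, vecMul_transvection, Pi.single_eq_of_ne hi]; simp
  have h12 := htor hL0 hx0 hdia0 1 2 (by decide) (hT0 _ _ _ (by decide))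
  have h21 := htor hL0 hx0 hdia0 2 1 (by decide) (hT0 _ _ _ (by decide))
  have h10 := htor hL0 hx0 hdia0 1 0 (by decide) (hT0 _ _ _ (by decide))
  have h20 := htor hL0 hx0 hdia0 2 0 (by decide) (hT0 _ _ _ (by decide))
  have hx1 : x0 ∈ L1 := (RepEigen.mem_eig τ).mpr fun β => by
    rw [AddChar.one_apply, one_smul]
    have e : tB β = Matrix.SpecialLinearGroup.transvection (show (1 : Fin (1 + 1 + 1)) ≠ 0 by decide) (β 0) *
        Matrix.SpecialLinearGroup.transvection (show (1 : Fin (1 + 1 + 1)) ≠ 2 by decide) (β 1) := by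
      rw [← tv_single (show (1 : Fin (1 + 1 + 1)) ≠ 0 by decide) _ (single_dot_single (by decide) _ _),
        ← tv_single (show (1 : Fin (1 + 1 + 1)) ≠ 2 by decide) _ (single_dot_single (by decide) _ _), ← tv_add_right, tB]
      refine tv_congr rfl ?_
      funext i; fin_cases i <;> simp
    have : tB β ∈ K := e ▸ mul_mem (h10 _) (h12 _)
    exact this x0 rfl
  have hdia1 : ∀ d : Fin (1 + 1 + 1) → F, ∀ hd' : ∏ i, d i = 1, ∀ x ∈ L1, τ (dia d hd') x ∈ L1 := fun d hd' x hx => by
    have hi : ∏ i, (d i)⁻¹ = 1 := by rw [Finset.prod_inv_distrib, hd', inv_one]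
    refine fix_map τ (fun a => ⟨![(d 1)⁻¹ * a 0 * d 0, (d 1)⁻¹ * a 1 * d 2], ?_⟩) hx
    rw [show (dia d hd' : Matrix.SpecialLinearGroup (Fin (1 + 1 + 1)) F)⁻¹ * tB a * dia d hd' =
      (dia d hd')⁻¹ * tB a * ((dia d hd')⁻¹)⁻¹ by rw [inv_inv], tB, tB, tv_conj]
    refine sl_ext ?_
    rw [coe_tv, coe_tv, inv_inv, dia_inv d hd' hi, coe_dia, coe_dia]
    congr 1
    ext i j
    rw [vecMulVec_apply, vecMulVec_apply, mulVec_diagonal, vecMul_diagonal]
    fin_cases i <;> fin_cases j <;> simp <;> ring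
  have hT1 : ∀ c, ∀ x ∈ L1, τ (Matrix.SpecialLinearGroup.transvection (show (0 : Fin (1 + 1 + 1)) ≠ 2 by decide) c) x ∈ L1 :=
    fun c x hx => by
    set h := Matrix.SpecialLinearGroup.transvection (show (0 : Fin (1 + 1 + 1)) ≠ 2 by decide) c
    refine fix_map τ (fun a => ⟨![a 0, a 1 + a 0 * c], ?_⟩) hx
    rw [show h⁻¹ * tB a * h = h⁻¹ * tB a * (h⁻¹)⁻¹ by rw [inv_inv], tB, tB, tv_conj]
    refine tv_congr ?_ ?_
    · rw [Matrix.SpecialLinearGroup.transvection_inv, mulVec_transvection]; simp
    · rw [inv_inv, vecMul_transvection]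
      funext i; fin_cases i <;> simp
  have h02 := htor hL1 hx1 hdia1 0 2 (by decide) hT1
  have h01 : ∀ c, Matrix.SpecialLinearGroup.transvection (show (0 : Fin (1 + 1 + 1)) ≠ 1 by decide) c ∈ K := fun c => by
    have h2 := h02 c
    have h1 := h21 1
    set a := Matrix.SpecialLinearGroup.transvection (show (0 : Fin (1 + 1 + 1)) ≠ 2 by decide) c
    set b := Matrix.SpecialLinearGroup.transvection (show (2 : Fin (1 + 1 + 1)) ≠ 1 by decide) (1 : F)
    have e : a * b = Matrix.SpecialLinearGroup.transvection (show (0 : Fin (1 + 1 + 1)) ≠ 1 by decide) c * (b * a) := by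
      refine sl_ext ?_
      simp only [a, b, Matrix.SpecialLinearGroup.coe_mul, Matrix.SpecialLinearGroup.transvection_coe]
      ext i j
      fin_cases i <;> fin_cases j <;> simp [Matrix.mul_apply, Fin.sum_univ_three, Matrix.single_apply, Matrix.one_apply]
    rw [← mul_inv_eq_iff_eq_mul.mpr e]
    exact mul_mem (mul_mem h2 h1) (inv_mem (mul_mem h1 h2))
  have htop : K = ⊤ := Cfsg.Lib.Classical.eq_top_of_transvection_mem _ fun i j hij c => by
    fin_cases i <;> fin_cases j <;> first
      | exact absurd rfl hij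
      | exact h12 c
      | exact h21 c
      | exact h10 c
      | exact h20 c
      | exact h02 c
      | exact h01 c
  exact hx00 (hnf x0 fun g => (htop ▸ Subgroup.mem_top g : g ∈ K) x0 rfl)

/-- The field with two elements. -/
theorem sl3_two (hq : Fintype.card F = 2) : False := by
  classical
  have h01 : ∀ c : F, c = 0 ∨ c = 1 := fun c => by
    by_contra h
    push Not at h
    have := Finset.card_le_univ ({0, 1, c} : Finset F)
    rw [Finset.card_insert_of_notMem (by simp [h.1.symm]), Finset.card_pair h.2.symm, hq] at this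
    omega
  haveI : CharP F 2 := by
    refine CharTwo.of_one_ne_zero_of_two_eq_zero one_ne_zero ?_
    rcases h01 (1 + 1) with e | e
    · rw [← one_add_one_eq_two]; exact e
    · exact absurd (add_eq_left.mp e) one_ne_zero
  have hL0 := col_line τ hd htr
  set f := tA (F := F) (k := 1)
  set h : Matrix.SpecialLinearGroup (Fin (1 + 1)) F :=
    Matrix.SpecialLinearGroup.transvection (show (1 : Fin (1 + 1)) ≠ 0 by decide) 1
  set g2 := emb h
  let θ : (Fin (1 + 1) → F) ≃+ (Fin (1 + 1) → F) :=
    { toFun := fun β => (h : Matrix (Fin (1 + 1)) (Fin (1 + 1)) F) *ᵥ β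
      invFun := fun β => ((h⁻¹ : Matrix.SpecialLinearGroup (Fin (1 + 1)) F) : Matrix (Fin (1 + 1)) (Fin (1 + 1)) F) *ᵥ β
      left_inv := fun β => by simp only [mulVec_mulVec, ← Matrix.SpecialLinearGroup.coe_mul, inv_mul_cancel,
        Matrix.SpecialLinearGroup.coe_one, one_mulVec]
      right_inv := fun β => by simp only [mulVec_mulVec, ← Matrix.SpecialLinearGroup.coe_mul, mul_inv_cancel,
        Matrix.SpecialLinearGroup.coe_one, one_mulVec]
      map_add' := fun a b => mulVec_add _ a b }
  have hθ : ∀ β, g2 * f β * g2⁻¹ = f (θ β) := fun β => emb_tA h β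
  have hsq : g2 * g2 = 1 := by
    rw [← map_mul, show h * h = 1 by
      refine sl_ext ?_
      simp only [h, Matrix.SpecialLinearGroup.coe_mul, Matrix.SpecialLinearGroup.transvection_coe,
        Matrix.SpecialLinearGroup.coe_one]
      ext i j
      fin_cases i <;> fin_cases j <;> simp [Matrix.mul_apply, Matrix.single_apply, Matrix.one_apply, CharTwo.add_self_eq_zero],
      map_one]
  have hg2 : g2 = Matrix.SpecialLinearGroup.transvection (show (2 : Fin (1 + 1 + 1)) ≠ 1 by decide) 1 :=
    emb_transvection _ 1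
  let p : Matrix.SpecialLinearGroup (Fin (1 + 1 + 1)) F := ⟨!![0, 0, 1; 1, 0, 0; 0, 1, 0], by simp [det_fin_three]⟩
  have hconj : IsConj (lineT (k := 1) (1 : F)) g2 := by
    refine isConj_iff.mpr ⟨p, mul_inv_eq_iff_eq_mul.mpr (sl_ext ?_)⟩
    rw [hg2]
    simp only [lineT, Matrix.SpecialLinearGroup.coe_mul, Matrix.SpecialLinearGroup.transvection_coe]
    ext i j
    fin_cases i <;> fin_cases j <;> simp [p, Matrix.mul_apply, Fin.sum_univ_three, Matrix.single_apply, Matrix.one_apply]
  have h0 : LinearMap.trace ℂ W (τ g2) = 0 := by rw [← trace_eq_of_isConj τ hconj, htr 1 one_ne_zero]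
  set e0 : Fin (1 + 1) → F := Pi.single 0 1
  set g := g2 * f e0
  have hval : ∀ χ : AddChar (Fin (1 + 1) → F) ℂ, trP τ f g χ = χ e0 * trP τ f g2 χ := fun χ => by
    rw [trP, trP, show g = g2 * f e0 from rfl, map_mul τ, mul_assoc, ← smul_eq_mul (a := χ e0), ← map_smul]
    congr 1
    refine LinearMap.ext fun x => ?_
    rw [Module.End.mul_apply, Module.End.mul_apply, (RepEigen.mem_eig τ).mp (RepEigen.proj_mem_eig τ tA_add χ x) e0,
      map_smul]
    rfl
  obtain ⟨ε, hε⟩ := smul_of_line τ hL0 (g := g2) fun x hx => fix_map τ (fun a => ⟨θ.symm a, by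
    rw [show f a = g2 * f (θ.symm a) * g2⁻¹ by rw [hθ, AddEquiv.apply_symm_apply]]; group⟩) hx
  have hε2 : ε * ε = 1 := by
    obtain ⟨x, hx, hx0⟩ := Submodule.exists_mem_ne_zero_of_ne_bot
      (p := RepEigen.eig τ f (1 : AddChar (Fin (1 + 1) → F) ℂ)) fun e => by rw [e, finrank_bot] at hL0; omega
    have e := congrArg (τ g2) (hε x hx)
    rw [← Module.End.mul_apply, ← map_mul, hsq, map_one, Module.End.one_apply, map_smul, hε x hx, smul_smul] at e
    exact (smul_left_injective ℂ hx0 (e.symm.trans (one_smul ℂ x).symm))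
  have ht1 : trP τ f g2 1 = ε := by rw [trP_scalar τ tA_add hε, hL0, Nat.cast_one, mul_one]
  have hsum : LinearMap.trace ℂ W (τ g) + LinearMap.trace ℂ W (τ g2) = 2 * ε := by
    rw [trace_eq_sum_trP τ (f := f) tA_add g, trace_eq_sum_trP τ (f := f) tA_add g2, ← Finset.sum_add_distrib,
      Finset.sum_eq_single (1 : AddChar (Fin (1 + 1) → F) ℂ) (fun χ _ hne => ?_) (fun h => absurd (Finset.mem_univ _) h),
      hval, ht1, AddChar.one_apply]
    · ring
    rw [hval]
    by_cases hfix : chiPull θ χ = χ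
    · have hsgn : ∀ a, χ a = 1 ∨ χ a = -1 := fun a => mul_self_eq_one_iff.mp (by
        rw [← AddChar.map_add_eq_mul, show a + a = 0 from funext fun i => CharTwo.add_self_eq_zero _, AddChar.map_zero_eq_one])
      rcases hsgn e0 with h' | h'
      · exfalso
        apply hne
        have h1 : χ (Pi.single 1 1) = 1 := by
          have e := DFunLike.congr_fun hfix e0
          rw [chiPull_apply, show θ e0 = e0 + Pi.single 1 1 by
            show (h : Matrix (Fin (1 + 1)) (Fin (1 + 1)) F) *ᵥ e0 = _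
            rw [mulVec_transvection]; simp [e0], AddChar.map_add_eq_mul, h', one_mul] at e
          exact e
        ext a
        have ha : a = (if a 0 = 0 then 0 else e0) + (if a 1 = 0 then 0 else Pi.single 1 1) := by
          funext i
          rcases h01 (a 0) with e | e <;> rcases h01 (a 1) with e' | e' <;> fin_cases i <;> simp [e, e', e0]
        rw [AddChar.one_apply, ha, AddChar.map_add_eq_mul]
        split_ifs <;> simp [h', h1]
      · rw [h']; ring
    · rw [trP_eq_zero τ tA_add θ hθ hfix]; ring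
  rw [h0, add_zero] at hsum
  have hperf : commutator (Matrix.SpecialLinearGroup (Fin (1 + 1 + 1)) F) = ⊤ :=
    Cfsg.Lib.Classical.SL_commutator_eq_top (by simp)
  have hirr : IsIrr τ := irr_of_small τ hperf (crude.{u, v} (F := F) 2 le_rfl) hnf (by rw [hd, hq]; norm_num)
  have hb := norm_sq_lt_centralizer τ hirr (by rw [hd, hq]; norm_num) g
  have hn : ‖ε‖ = 1 := by rcases mul_self_eq_one_iff.mp hε2 with rfl | rfl <;> simp
  rw [hsum, norm_mul, hn, RCLike.norm_ofNat] at hb
  set C := Subgroup.centralizer ({g} : Set (Matrix.SpecialLinearGroup (Fin (1 + 1 + 1)) F))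
  have hgm : (g : Matrix (Fin (1 + 1 + 1)) (Fin (1 + 1 + 1)) F) = !![1, 0, 0; 1, 1, 0; 1, 1, 1] := by
    simp only [g, hg2, f, e0, tA_single, Matrix.SpecialLinearGroup.coe_mul, Matrix.SpecialLinearGroup.transvection_coe]
    ext i j
    fin_cases i <;> fin_cases j <;> simp [Matrix.mul_apply, Fin.sum_univ_three, Matrix.single_apply, Matrix.one_apply]
  have hcol : ∀ x : C, (x.1 : Matrix (Fin (1 + 1 + 1)) (Fin (1 + 1 + 1)) F) =
      !![x.1 0 0, 0, 0; x.1 1 0, x.1 0 0, 0; x.1 2 0, x.1 1 0, x.1 0 0] := fun x => by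
    have e := congrArg (fun y : Matrix.SpecialLinearGroup (Fin (1 + 1 + 1)) F =>
      (y : Matrix (Fin (1 + 1 + 1)) (Fin (1 + 1 + 1)) F)) (Subgroup.mem_centralizer_singleton_iff.mp x.2)
    simp only [Matrix.SpecialLinearGroup.coe_mul, hgm] at e
    have e00 := congrFun (congrFun e 0) 0
    have e01 := congrFun (congrFun e 0) 1
    have e10 := congrFun (congrFun e 1) 0
    have e11 := congrFun (congrFun e 1) 1
    have e20 := congrFun (congrFun e 2) 0
    have e21 := congrFun (congrFun e 2) 1
    simp [Matrix.mul_apply, Fin.sum_univ_three] at e00 e01 e10 e11 e20 e21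
    ext i j
    fin_cases i <;> fin_cases j <;> simp <;> grind
  let Φ : C → {v : Fin (1 + 1 + 1) → F // v 0 = 1} := fun x => ⟨fun i => x.1 i 0, by
    rcases h01 (x.1 0 0) with e | e
    · have hdet := x.1.2
      rw [hcol x, e] at hdet
      simp [det_fin_three] at hdet
    · exact e⟩
  have hinj : Function.Injective Φ := fun x y e => Subtype.ext (sl_ext (by
    have e' := congrFun (congrArg Subtype.val e)
    simp only [Φ] at e'
    rw [hcol x, hcol y, e' 0, e' 1, e' 2]))
  have hcard : Nat.card {v : Fin (1 + 1 + 1) → F // v 0 = 1} = 4 := by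
    rw [Nat.card_congr (show {v : Fin (1 + 1 + 1) → F // v 0 = 1} ≃ (Fin 2 → F) from
      { toFun := fun v i => v.1 i.succ
        invFun := fun w => ⟨Fin.cons 1 w, rfl⟩
        left_inv := fun v => Subtype.ext (funext fun i => by
          cases i using Fin.cases with
          | zero => exact v.2.symm
          | succ i => rfl)
        right_inv := fun w => rfl }), Nat.card_eq_fintype_card, Fintype.card_fun, hq, Fintype.card_fin]
    norm_num
  have := Nat.card_le_card_of_injective Φ hinj
  rw [hcard] at this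
  have : (Nat.card C : ℝ) ≤ 4 := by exact_mod_cast this
  nlinarith

end Cfsg.Lib.OrthMinDeg
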