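import Cfsg.Agent.Known.OrthMinDegree.Mixed.Twist
import Cfsg.Agent.Known.OrthMinDegree.Odd.Centre

/-! Weight vectors fixed by the twisted radical. -/

set_option autoImplicit false
set_option linter.unusedSectionVars false
set_option linter.style.haveILetI false

open Matrix Cfsg.Lib.Classical Cfsg.Lib.Classical.Refl Cfsg.Lib.Classical.HypQuad Cfsg.Lib.SLMinDeg

namespace Cfsg.Lib.OrthMinDeg

universe u v

variable {F : Type u} [Field F] [Fintype F] {k : ℕ} {κ : Type} [Fintype κ] [DecidableEq κ]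
  (Q0 : QuadraticForm F (κ → F)) (h0 : (QuadraticMap.polarBilin Q0).Nondegenerate)
  {M : Type v} [AddCommGroup M] [Module ℂ M] [FiniteDimensional ℂ M] (hn : 3 ≤ k + 1 + 1)
  (ρ : OmM (k + 1 + 1) Q0 →* Module.End ℂ M)

theorem lineT_eq_tA (c : F) : lineT (k := k) c = tA (Pi.single (0 : Fin (k + 1)) c) := by
  rw [tA_single, lineT]; rfl

include h0 in
/-- A vector of the first weight space fixed by the column group. -/
theorem exists_col_fixed (hdec : ∀ L : Module.Dual F (AltM F (k + 1 + 1)), Dec L →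
    Module.finrank ℂ (Eg hn (rhoP Q0 ρ) L) = RR F κ) (htriv : Triv Q0 h0 hn ρ 1) (hsur : Function.Surjective Q0) :
    ∃ x : M, x ≠ 0 ∧ x ∈ VV Q0 hn ρ 1 ∧ ∀ β, ρ (lvM Q0 hn (tA β)) x = x := by
  classical
  choose l hl using fun c => exists_lam Q0 h0 hn ρ hdec (one_ne_zero (α := F)) c
  have hne : VL Q0 h0 hn ρ 1 ≠ ⊥ := fun h => by
    have := finrank_VL Q0 h0 hn ρ hdec (one_ne_zero (α := F))
    rw [h, finrank_bot] at this; omega
  obtain ⟨v, hv, hv0⟩ := Submodule.exists_mem_ne_zero_of_ne_bot hne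
  have hadd : ∀ c d, l (c + d) = l c * l d := fun c d => by
    have h := hl (c + d) v hv
    rw [lineT_eq_tA, Pi.single_add, tA_add, map_mul, map_mul, Module.End.mul_apply, ← lineT_eq_tA, ← lineT_eq_tA,
      hl d v hv, map_smul, hl c v hv, smul_smul, mul_comm] at h
    exact (smul_left_injective ℂ hv0 h).symm
  have hzero : l 0 = 1 := by
    have h := hl 0 v hv
    rw [lineT_eq_tA, Pi.single_zero, tA_zero, map_one, map_one, Module.End.one_apply] at h
    exact smul_left_injective ℂ hv0 (h.symm.trans (one_smul ℂ v).symm)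
  let χ : AddChar F ℂ := ⟨l, hzero, hadd⟩
  obtain ⟨b, hb⟩ := ((Fintype.bijective_iff_injective_and_card fun b : F => AddChar.mulShift psi0 b).mpr
    ⟨AddChar.to_mulShift_inj_of_isPrimitive psi0_primitive, AddChar.card_eq.symm⟩).2 χ
  obtain ⟨t, ht⟩ := hsur (-b)
  have hbij := prW_bijective Q0 h0 (bf_La_01 (k := k) (one_ne_zero (α := F))).2
  set pc := prW Q0 (bf (La (k := k) (1 : F)) (Pi.single 1 1) (Pi.single 0 1)) t
  have hd : Module.finrank ℂ ↥(VV Q0 hn ρ 1 ⊓ RepEigen.eig ρ (uM Q0 h0 hn (Pi.single 1 1)) pc) = 1 := by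
    rw [finrank_piece ρ (f := uM Q0 h0 hn (Pi.single 1 1)) (X := VV Q0 hn ρ 1)
      (g := uM Q0 h0 hn (Pi.single 0 1)) (fun w x hx => uM_map_Eg Q0 h0 hn ρ _ w hx)
      (pr := prW Q0 (bf (La (k := k) (1 : F)) (Pi.single 1 1) (Pi.single 0 1)))
      (fun w' w x hx => uM_rel Q0 h0 hn ρ _ _ w w' hx) hbij]
    exact finrank_VL Q0 h0 hn ρ hdec (one_ne_zero (α := F))
  obtain ⟨x, hx, hx0⟩ := Submodule.exists_mem_ne_zero_of_ne_bot
    (p := VV Q0 hn ρ 1 ⊓ RepEigen.eig ρ (uM Q0 h0 hn (Pi.single 1 1)) pc)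
    (fun h => by rw [h, finrank_bot] at hd; omega)
  refine ⟨x, hx0, hx.1, fun β => ?_⟩
  have hline : ρ (lvM Q0 hn (lineT (β 0))) x = x := by
    rw [lineT_piece Q0 h0 hn ρ hdec (one_ne_zero (α := F)) (hl (β 0)) t hx, show l (β 0) = χ (β 0) from rfl, ← hb,
      AddChar.mulShift_apply, ← AddChar.map_add_eq_mul, ht,
      show b * β 0 + 1 * β 0 * -b = 0 by ring, AddChar.map_zero_eq_one, one_smul]
  have hrest : lvM Q0 hn (tA (β - Pi.single 0 (β 0))) ∈ KV Q0 hn ρ 1 := by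
    refine tv_col_mem Q0 h0 hn ρ hdec one_ne_zero htriv (Fin.cons_zero _ _) ?_ (Or.inl rfl) 1 _
    rw [show (1 : Fin (k + 1 + 1)) = Fin.succ 0 from rfl, Fin.cons_succ, Pi.sub_apply, Pi.single_eq_same, sub_self]
  rw [show tA β = tA (Pi.single 0 (β 0)) * tA (β - Pi.single 0 (β 0)) by rw [← tA_add, add_sub_cancel],
    map_mul, map_mul, Module.End.mul_apply, hrest x hx.1, ← lineT_eq_tA, hline]

include h0 in
/-- The twisted fixed space has at least the number of non-zero vectors of the smaller space. -/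
theorem twist_lower (hdec : ∀ L : Module.Dual F (AltM F (k + 1 + 1)), Dec L →
    Module.finrank ℂ (Eg hn (rhoP Q0 ρ) L) = RR F κ) (htriv : Triv Q0 h0 hn ρ 1) (hsur : Function.Surjective Q0) :
    Fintype.card F ^ (k + 1) - 1 ≤ ff hn (rhoP Q0 (twM Q0 ρ)) := by
  classical
  obtain ⟨x, hx0, hxV, hxf⟩ := exists_col_fixed Q0 h0 hn ρ hdec htriv hsur
  set W' := Eg hn (rhoP Q0 (twM Q0 ρ)) 0
  let Lv : {v : Fin (k + 1) → F // v ≠ 0} → Module.Dual F (AltM F (k + 1 + 1)) := fun v =>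
    luv (Pi.single 0 1) (Fin.cons 0 v.1)
  have hinj : Function.Injective fun v => chi (Lv v) := fun v v' h => Subtype.ext (funext fun i => by
    have e := congrArg (fun N => bf N (Pi.single 0 1) (Pi.single i.succ 1)) (chi_injective h)
    simpa [Lv, bf_luv, dotProduct_single, Pi.single_apply, Fin.succ_ne_zero, (Fin.succ_ne_zero _).symm] using e)
  have hpiece : ∀ v, 1 ≤ Module.finrank ℂ ↥(W' ⊓ RepEigen.eig ρ (xM Q0 hn) (chi (Lv v))) := by
    intro v
    obtain ⟨g, hg⟩ := exists_vecMul_eq v.2 0 ⟨Fin.last k, by simp [Fin.ext_iff]; omega⟩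
    set y := ρ (lvM Q0 hn (emb g)) x
    have hy0 : y ≠ 0 := fun h => hx0 (apply_injective ρ (lvM Q0 hn (emb g)) (h.trans (map_zero _).symm))
    have hyL : y ∈ Eg hn (rhoP Q0 ρ) (Lv v) := by
      refine map_Eg hn (rhoP Q0 ρ) (Matrix.SpecialLinearGroup.toGL (emb g)) (lvI_mem hn _) (Lv v) (x := x) ?_
      show x ∈ Eg hn (rhoP Q0 ρ) ((Lv v).comp (cg (emb g : Matrix (Fin (k + 1 + 1)) (Fin (k + 1 + 1)) F)))
      rw [show (Lv v).comp (cg (emb g : Matrix (Fin (k + 1 + 1)) (Fin (k + 1 + 1)) F)) = La (k := k) (1 : F) by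
        rw [La, one_smul, luv_comp, single_one_cons, single_zero_cons, vecMul_emb, vecMul_emb, zero_vecMul, hg]]
      exact hxV
    have hyf : ∀ β, ρ (lvM Q0 hn (tA β)) y = y := fun β => by
      set β' := ((g⁻¹ : Matrix.SpecialLinearGroup (Fin (k + 1)) F) : Matrix (Fin (k + 1)) (Fin (k + 1)) F) *ᵥ β
      have hgβ : (g : Matrix (Fin (k + 1)) (Fin (k + 1)) F) *ᵥ β' = β := by
        rw [mulVec_mulVec, ← Matrix.SpecialLinearGroup.coe_mul, mul_inv_cancel, Matrix.SpecialLinearGroup.coe_one,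
          one_mulVec]
      have e := emb_tA g β'
      rw [hgβ, mul_inv_eq_iff_eq_mul] at e
      show ρ (lvM Q0 hn (tA β)) (ρ (lvM Q0 hn (emb g)) x) = _
      rw [← Module.End.mul_apply, ← map_mul ρ, ← map_mul (lvM Q0 hn), ← e, map_mul, map_mul, Module.End.mul_apply, hxf]
    have hyW : y ∈ W' := by
      show y ∈ Eg hn (rhoP Q0 (twM Q0 ρ)) 0
      rw [rhoP_twM]
      refine mem_twist_zero hn (rhoP Q0 ρ) (fun i j c hi hj => ?_) fun j hj c => ?_
      · refine ((mem_EgM Q0 hn ρ).mp hyL _).trans ?_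
        rw [← bf_apply, bf_luv]
        simp [hi, hj, Ne.symm hi, Ne.symm hj]
      · obtain ⟨i, rfl⟩ := Fin.exists_succ_eq.mpr hj
        rw [← tA_single]
        exact hyf _
    rw [Nat.one_le_iff_ne_zero]
    intro h
    exact hy0 ((Submodule.mem_bot ℂ).mp (Submodule.finrank_eq_zero.mp h ▸ (⟨hyW, hyL⟩ :
      y ∈ W' ⊓ RepEigen.eig ρ (xM Q0 hn) (chi (Lv v)))))
  calc Fintype.card F ^ (k + 1) - 1 = ∑ _v : {v : Fin (k + 1) → F // v ≠ 0}, 1 := by
        rw [Finset.sum_const, Finset.card_univ, smul_eq_mul, mul_one, ← Nat.card_eq_fintype_card (α := {v : Fin (k + 1) → F // v ≠ 0}), card_fun_ne_zero]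
    _ ≤ ∑ v, Module.finrank ℂ ↥(W' ⊓ RepEigen.eig ρ (xM Q0 hn) (chi (Lv v))) := Finset.sum_le_sum fun v _ => hpiece v
    _ = ∑ χ ∈ Finset.univ.image (fun v => chi (Lv v)), Module.finrank ℂ ↥(W' ⊓ RepEigen.eig ρ (xM Q0 hn) χ) := by
        rw [Finset.sum_image fun a _ b _ h => hinj h]
    _ ≤ ∑ χ, Module.finrank ℂ ↥(W' ⊓ RepEigen.eig ρ (xM Q0 hn) χ) :=
        Finset.sum_le_sum_of_subset (Finset.subset_univ _)
    _ ≤ _ := RepEigen.sum_finrank_eig_le ρ (xM_add Q0 hn) W'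

end Cfsg.Lib.OrthMinDeg
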