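import Cfsg.Agent.Known.OrthMinDegree.Minus.Fixed
import Cfsg.Agent.Known.OrthMinDegree.Minus.TwistLower
import Cfsg.Agent.Known.OrthMinDegree.Minus.Count
import Cfsg.Agent.Known.OrthMinDegree.Minus.SLThree

/-! The smallest degree of a non-trivial representation of `Ω⁻`. -/

set_option autoImplicit false
set_option linter.unusedSectionVars false
set_option linter.style.haveILetI false

open Matrix Cfsg.Lib.Classical Cfsg.Lib.Classical.HypQuad Cfsg.Lib.SLMinDeg

namespace Cfsg.Lib.OrthMinDeg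

universe u v

variable {F : Type u} [Field F] [Fintype F]

/-- A fixed space of dimension thirteen is impossible for `SL₄(2)`. -/
theorem sl4_two {W : Type v} [AddCommGroup W] [Module ℂ W] [FiniteDimensional ℂ W]
    (τ : Matrix.SpecialLinearGroup (Fin (3 + 1)) F →* Module.End ℂ W)
    (hnf : ∀ x : W, (∀ g, τ g x = x) → x = 0) (hq : Fintype.card F = 2) (hd : Module.finrank ℂ W = 13) : False := by
  have hirr := irr_of_small τ (Cfsg.Lib.Classical.SL_commutator_eq_top (by simp))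
    (crude.{u, v} (F := F) 3 (by norm_num)) hnf (by rw [hd, hq]; norm_num)
  rcases cases_mm τ hirr (by norm_num) (by omega) with h | ⟨-, h, hdvd⟩
  · rw [hd, hq] at h; norm_num at h
  · rw [hd, hq] at h
    have hf : SLMinDeg.ff τ = 6 := by omega
    rw [hf, hq] at hdvd
    norm_num [S, Finset.sum_range_succ] at hdvd

/-- The bound. -/
def BM (q k : ℕ) : ℕ := q ^ 2 * ((q ^ (k + 1 + 1) - 1) * (q ^ (k + 1) - 1) / (q ^ 2 - 1)) + (S q (k + 1 + 1) - 1)

theorem RR_two : RR F (Fin 2) = Fintype.card F ^ 2 := by rw [RR, Fintype.card_fin]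

variable {k : ℕ} (hk : 1 ≤ k)

include hk

theorem decN_mul : Nat.card {L : Module.Dual F (AltM F (k + 1 + 1)) // Dec L} * (Fintype.card F ^ 2 - 1) =
    (Fintype.card F ^ (k + 1 + 1) - 1) * (Fintype.card F ^ (k + 1) - 1) := by
  have h := card_dec (F := F) (k := k) hk
  have e : Fintype.card F ^ (k + 1 + 1) - Fintype.card F = Fintype.card F * (Fintype.card F ^ (k + 1) - 1) := by
    rw [Nat.mul_sub_one, pow_succ']
  rw [e] at h
  refine Nat.eq_of_mul_eq_mul_left (Fintype.card_pos (α := F)) ?_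
  linear_combination h

theorem BM_eq : BM (Fintype.card F) k =
    RR F (Fin 2) * Nat.card {L : Module.Dual F (AltM F (k + 1 + 1)) // Dec L} +
      (S (Fintype.card F) (k + 1 + 1) - 1) := by
  have hq : 0 < Fintype.card F ^ 2 - 1 := Nat.sub_pos_of_lt (Nat.one_lt_pow two_ne_zero Fintype.one_lt_card)
  rw [BM, ← decN_mul hk, Nat.mul_div_cancel _ hq, RR_two]

theorem BM_mul : BM (Fintype.card F) k * (Fintype.card F ^ 2 - 1) =
    (Fintype.card F ^ (k + 1 + 1 + 1) + 1) * (Fintype.card F ^ (k + 1 + 1) - Fintype.card F) := by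
  have hN := decN_mul (F := F) hk
  have hS := S_mul (Fintype.card F) (k + 1 + 1) Fintype.card_pos
  have hS1 : 1 ≤ S (Fintype.card F) (k + 1 + 1) := by rw [S_succ]; have := Nat.one_le_pow (k + 1) (Fintype.card F) Fintype.card_pos; omega
  rw [BM_eq hk, RR_two]
  set q := Fintype.card F
  have hq : 2 ≤ q := Fintype.one_lt_card
  have h1 : ∀ j, 1 ≤ q ^ j := fun j => Nat.one_le_pow _ _ (by omega)
  have h2 : q ≤ q ^ (k + 1 + 1) := Nat.le_self_pow (by omega) q
  zify [h1 2, h1 (k + 1), h1 (k + 1 + 1), h2, hS1, (show 1 ≤ q by omega)] at hN hS ⊢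
  rw [pow_succ (q : ℤ) (k + 1 + 1), pow_succ (q : ℤ) (k + 1)] at *
  linear_combination ((q : ℤ) ^ 2) * hN + ((q : ℤ) + 1) * hS

theorem sizesM {d : ℕ} (hd : d < BM (Fintype.card F) k) :
    d < RR F (Fin 2) * RR F (Fin 2) * ((Fintype.card F ^ (k + 1) - 1) * Fintype.card F ^ k) ∧
      d < 2 * (RR F (Fin 2) * Nat.card {L : Module.Dual F (AltM F (k + 1 + 1)) // Dec L}) := by
  have hN := decN_mul (F := F) hk
  have hS := S_mul (Fintype.card F) (k + 1 + 1) Fintype.card_pos
  rw [BM_eq hk, RR_two] at hd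
  rw [RR_two]
  set q := Fintype.card F
  set N := Nat.card {L : Module.Dual F (AltM F (k + 1 + 1)) // Dec L}
  have hq : 2 ≤ q := Fintype.one_lt_card
  obtain ⟨y, hy⟩ : ∃ y, q ^ k = y := ⟨_, rfl⟩
  have hy1 : q ≤ y := hy ▸ Nat.le_self_pow (by omega) q
  rw [pow_succ q k, hy]
  rw [pow_succ q (k + 1), pow_succ q k, hy] at hN hS
  have hb1 : 1 ≤ y * q := Nat.mul_pos (by omega) (by omega)
  have hb2 : 1 ≤ y * q * q := Nat.mul_pos hb1 (by omega)
  have hq1 : 1 ≤ q := by omega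
  have hq2 : 1 ≤ q ^ 2 := Nat.one_le_pow _ _ hq1
  have hd' : d < q ^ 2 * N + S q (k + 1 + 1) := by omega
  zify [hb1, hb2, hq1, hq2] at hS hN hd' ⊢
  set s : ℤ := ((S q (k + 1 + 1) : ℕ) : ℤ)
  have hq' : (2 : ℤ) ≤ q := by exact_mod_cast hq
  have hy' : (q : ℤ) ≤ y := by exact_mod_cast hy1
  have hq2' : (0 : ℤ) < (q : ℤ) ^ 2 - 1 := by nlinarith
  have hx : (4 : ℤ) ≤ (y : ℤ) * q := by nlinarith
  have hx2 : (0 : ℤ) ≤ (y : ℤ) * q * q - 1 := by nlinarith
  have key : s ≤ (q : ℤ) ^ 2 * N := by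
    refine le_of_mul_le_mul_right ?_ hq2'
    rw [show s * ((q : ℤ) ^ 2 - 1) = ((q : ℤ) + 1) * ((y : ℤ) * q * q - 1) by linear_combination ((q : ℤ) + 1) * hS,
      show (q : ℤ) ^ 2 * N * ((q : ℤ) ^ 2 - 1) = (q : ℤ) ^ 2 * ((y : ℤ) * q - 1) * ((y : ℤ) * q * q - 1) by
        linear_combination (q : ℤ) ^ 2 * hN]
    refine mul_le_mul_of_nonneg_right ?_ hx2
    nlinarith
  refine ⟨lt_of_lt_of_le hd' ?_, by linarith⟩
  refine le_trans (show _ ≤ 2 * ((q : ℤ) ^ 2 * N) by linarith) ?_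
  refine le_of_mul_le_mul_right ?_ hq2'
  calc 2 * ((q : ℤ) ^ 2 * N) * ((q : ℤ) ^ 2 - 1)
      = (2 * ((y : ℤ) * q * q - 1)) * ((q : ℤ) ^ 2 * ((y : ℤ) * q - 1)) := by linear_combination (2 * (q : ℤ) ^ 2) * hN
    _ ≤ ((q : ℤ) ^ 2 * y * ((q : ℤ) ^ 2 - 1)) * ((q : ℤ) ^ 2 * ((y : ℤ) * q - 1)) := by
        refine mul_le_mul_of_nonneg_right ?_ (by nlinarith)
        nlinarith [mul_le_mul_of_nonneg_left (show (2 : ℤ) ≤ (q : ℤ) ^ 2 - 1 by nlinarith)
          (show (0 : ℤ) ≤ (y : ℤ) * q * q by positivity)]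
    _ = _ := by ring

variable {a b : F} (hab : ∀ z₁ z₂ : F, z₁ ^ 2 + a * z₁ * z₂ + b * z₂ ^ 2 = 0 → z₁ = 0 ∧ z₂ = 0)
  {M : Type v} [AddCommGroup M] [Module ℂ M] [FiniteDimensional ℂ M] (hn : 3 ≤ k + 1 + 1)
  (ρ : OmM (k + 1 + 1) (planeQ a b) →* Module.End ℂ M) (hirr : IsIrr ρ) (hd2 : 2 ≤ Module.finrank ℂ M)
  (hd : Module.finrank ℂ M < BM (Fintype.card F) k)

include hab hn hirr hd2 hd

theorem minus_shape : Module.finrank ℂ M = ff hn (rhoP (planeQ a b) ρ) +
      RR F (Fin 2) * Nat.card {L : Module.Dual F (AltM F (k + 1 + 1)) // Dec L} ∧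
    (∀ L : Module.Dual F (AltM F (k + 1 + 1)), Dec L →
      Module.finrank ℂ (Eg hn (rhoP (planeQ a b) ρ) L) = RR F (Fin 2)) ∧
    ∀ L : Module.Dual F (AltM F (k + 1 + 1)), L ≠ 0 → ¬ Dec L → Eg hn (rhoP (planeQ a b) ρ) L = ⊥ :=
  shapeM (planeQ a b) (plane_nondeg hab) hn ρ hirr hd2 hk (by simp) (sizesM hk hd).1 (sizesM hk hd).2

omit hirr hd2 hd in
/-- The value of a transvection on the fixed space. -/
theorem trace_zero_sub (g : Matrix.SpecialLinearGroup (Fin (k + 1 + 1)) F) :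
    LinearMap.trace ℂ (Eg hn (rhoP (planeQ a b) ρ) 0) (subRep (ρ.comp (lvM (planeQ a b) hn))
      (Eg hn (rhoP (planeQ a b) ρ) 0) (fun g _ hx => lvM_map_zero (planeQ a b) hn ρ g hx) g) =
      trP ρ (xM (planeQ a b) hn) (lvM (planeQ a b) hn g) (chi 0) := by
  classical
  exact trace_subRep (ρ.comp (lvM (planeQ a b) hn)) (fun g _ hx => lvM_map_zero (planeQ a b) hn ρ g hx)
    ⟨RepEigen.proj_mem_eig ρ (xM_add (planeQ a b) hn) (chi 0), fun x hx => by
      rw [RepEigen.proj_apply_eig ρ (xM_add (planeQ a b) hn) hx, if_pos rfl]⟩ g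

theorem minus_false : False := by
  classical
  have h0 := plane_nondeg hab
  obtain ⟨hdim, hdec, hz⟩ := minus_shape hk hab hn ρ hirr hd2 hd
  have hirr' := twM_irr (planeQ a b) ρ hirr
  obtain ⟨hdim', -, -⟩ := minus_shape hk hab hn (twM (planeQ a b) ρ) hirr' hd2 hd
  have hd' := hd
  rw [BM_eq hk] at hd'
  set f := ff hn (rhoP (planeQ a b) ρ) with hfdef
  have hS := S_mul (Fintype.card F) (k + 1 + 1) Fintype.card_pos
  have hS2 : S (Fintype.card F) (k + 1 + 1) ≤ Fintype.card F ^ (k + 1 + 1) - 1 := by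
    have := Nat.le_mul_of_pos_right (S (Fintype.card F) (k + 1 + 1)) (show 0 < Fintype.card F - 1 by
      have := Fintype.one_lt_card (α := F); omega)
    omega
  have hf : f + 1 < Fintype.card F ^ (k + 1 + 1) := by omega
  have hf' : ff hn (rhoP (planeQ a b) (twM (planeQ a b) ρ)) + 1 < Fintype.card F ^ (k + 1 + 1) := by omega
  have hlow : Fintype.card F ^ (k + 1) - 1 ≤ f := by
    have := twist_lower (planeQ a b) h0 hn ρ hdec (triv_plane hab hn ρ hdec one_ne_zero) (plane_surjective hab)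
    omega
  set W := Eg hn (rhoP (planeQ a b) ρ) 0
  let τ : Matrix.SpecialLinearGroup (Fin (k + 1 + 1)) F →* Module.End ℂ W :=
    subRep (ρ.comp (lvM (planeQ a b) hn)) W fun g _ hx => lvM_map_zero (planeQ a b) hn ρ g hx
  have hnf : ∀ x : W, (∀ g, τ g x = x) → x = 0 := fun x hx =>
    Subtype.ext (fixed_zero (planeQ a b) h0 hn ρ (by simp) hirr hd2 hf hf' x.2 fun g => congrArg Subtype.val (hx g))
  have hdW : Module.finrank ℂ W = f := rfl
  by_cases hex : ¬ (k + 1 = 2 ∧ (Fintype.card F = 2 ∨ Fintype.card F = 4)) ∧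
      ¬ (k + 1 = 3 ∧ (Fintype.card F = 2 ∨ Fintype.card F = 3))
  · have hf1 : 1 ≤ f := by
      have := Nat.one_lt_pow (n := k + 1) (by omega) (Fintype.one_lt_card (α := F))
      omega
    obtain ⟨x, hx, hx0⟩ := Submodule.exists_mem_ne_zero_of_ne_bot (p := W) fun e => by
      rw [e, finrank_bot] at hdW; omega
    obtain ⟨g, hg⟩ : ∃ g, ρ (lvM (planeQ a b) hn g) x ≠ x := by
      by_contra hc
      push Not at hc
      exact hx0 (fixed_zero (planeQ a b) h0 hn ρ (by simp) hirr hd2 hf hf' hx hc)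
    have := ff_lower_of_moved (planeQ a b) hn ρ hex hx hg
    omega
  have hdvd := dim_dvd_pairs (planeQ a b) h0 (by simp) hn ρ hk hirr hd2 hdim hdec hz
  rw [card_spair (planeQ a b) h0 (k := k + 1), card_zero_plane (k + 1 + 1) hab, card_zero_plane (k + 1) hab, RR_two, hdim,
    RR_two] at hdvd
  have hN := decN_mul (F := F) hk
  set N := Nat.card {L : Module.Dual F (AltM F (k + 1 + 1)) // Dec L}
  rw [RR_two] at hd'
  have hcase : (k = 1 ∧ Fintype.card F = 2) ∨ (k = 1 ∧ Fintype.card F = 4) ∨ (k = 2 ∧ Fintype.card F = 2) ∨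
      (k = 2 ∧ Fintype.card F = 3) := by omega
  have hsq : (k = 1 ∧ f = Fintype.card F ^ 2) ∨ (k = 2 ∧ Fintype.card F = 2 ∧ f = 13) := by
    rw [hdim, RR_two] at hd'
    clear hfdef hdW
    clear_value f N
    rcases hcase with ⟨rfl, hq⟩ | ⟨rfl, hq⟩ | ⟨rfl, hq⟩ | ⟨rfl, hq⟩ <;>
      simp only [hq, S, Finset.sum_range_succ, Finset.sum_range_zero] at hN hd' hlow hdvd ⊢ <;>
      norm_num at hN hd' hlow hdvd ⊢
    · obtain rfl : N = 7 := by omega
      have : f ≤ 5 := by omega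
      interval_cases f <;> first | rfl | norm_num at hdvd
    · obtain rfl : N = 63 := by omega
      have : f ≤ 19 := by omega
      interval_cases f <;> first | rfl | norm_num at hdvd
    · obtain rfl : N = 35 := by omega
      have : f ≤ 13 := by omega
      interval_cases f <;> first | rfl | norm_num at hdvd
    · obtain rfl : N = 260 := by omega
      have : f ≤ 38 := by omega
      interval_cases f <;> first | rfl | norm_num at hdvd
  rcases hsq with ⟨rfl, hf4⟩ | ⟨rfl, hq, hf13⟩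
  swap
  · exact sl4_two τ hnf hq (hdW.trans hf13)
  have hperf : commutator (Matrix.SpecialLinearGroup (Fin 1) F) = ⊤ := by
    refine eq_top_iff.mpr fun g _ => ?_
    rw [show g = 1 from Subsingleton.elim _ _]
    exact one_mem _
  have htriv := triv_plane hab hn ρ hdec (one_ne_zero (α := F))
  rcases hcase with ⟨-, hq⟩ | ⟨-, hq⟩ | ⟨h, -⟩ | ⟨h, -⟩
  · have h01 : ∀ c : F, c ≠ 0 → c = 1 := fun c hc => by
      by_contra h
      have := Finset.card_le_univ ({0, 1, c} : Finset F)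
      rw [Finset.card_insert_of_notMem (by simp [Ne.symm hc]), Finset.card_pair (Ne.symm h), hq] at this
      omega
    obtain ⟨l, hl⟩ := exists_lam (planeQ a b) h0 hn ρ hdec (one_ne_zero (α := F)) 1
    have hlT : ∀ c d : F, lineT (k := 1) (c + d) = lineT c * lineT d := fun c d => by
      rw [lineT_eq_tA, lineT_eq_tA, lineT_eq_tA, Pi.single_add, tA_add]
    have h11 : (1 : F) + 1 = 0 := by
      by_contra h
      exact one_ne_zero (α := F) (add_eq_left.mp (h01 _ h))
    have hl2 : l * l = 1 := by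
      obtain ⟨x, hx, hx0⟩ := Submodule.exists_mem_ne_zero_of_ne_bot (p := VL (planeQ a b) h0 hn ρ 1) fun e => by
        have := finrank_VL (planeQ a b) h0 hn ρ hdec (one_ne_zero (α := F))
        rw [e, finrank_bot] at this; omega
      have e := congrArg (ρ (lvM (planeQ a b) hn (lineT 1))) (hl x hx)
      rw [← Module.End.mul_apply, ← map_mul ρ, ← map_mul (lvM (planeQ a b) hn), ← hlT, h11, lineT_eq_tA, Pi.single_zero, tA_zero,
        map_one, map_one, Module.End.one_apply, map_smul, hl x hx, smul_smul] at e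
      exact smul_left_injective ℂ hx0 (e.symm.trans (one_smul ℂ x).symm)
    have hD := diff_lineT (planeQ a b) h0 hn ρ hk hdim hdec hz htriv hperf (by simp) (one_ne_zero (α := F))
      (val := fun r => l * ∑ t : Fin 2 → F, psi0 (r * 1 * (planeQ a b) t)) (fun r hr => by
        rw [h01 r hr]; exact trP_lineT (planeQ a b) h0 hn ρ hdec (one_ne_zero (α := F)) hl)
    rw [← Finset.mul_sum, sum_char_plane hab (one_ne_zero (α := F)), RR_two, ← hfdef, hf4, hq] at hD
    have htr : LinearMap.trace ℂ W (τ (lineT (1 : F))) = 4 * l - 4 := by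
      rw [trace_zero_sub hk hab hn ρ]
      push_cast at hD
      linear_combination -hD
    rcases mul_self_eq_one_iff.mp hl2 with rfl | rfl
    · refine sl3_two τ hnf (hdW.trans hf4) (fun c hc => ?_) hq
      rw [h01 c hc, htr]; ring
    · have h := finrank_eig_one_of_trace τ (f := fun c : F => lineT (k := 1) c) hlT (τ := -8) fun c hc => by
        rw [h01 c hc, htr]; norm_num
      rw [hdW, hf4, hq] at h
      set F0 := Module.finrank ℂ (RepEigen.eig τ (fun c : F => lineT (k := 1) c) (1 : AddChar F ℂ))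
      have : ((2 * F0 + 4 : ℕ) : ℂ) = ((0 : ℕ) : ℂ) := by push_cast at h ⊢; linear_combination h
      have := Nat.cast_injective this
      omega
  · refine sl3_big τ hnf (hdW.trans hf4) (fun c hc => ?_) (by omega)
    have hD := diff_lineT (planeQ a b) h0 hn ρ hk hdim hdec hz htriv hperf (by simp) hc
      (val := fun r => ∑ t : Fin 2 → F, psi0 (r * c * (planeQ a b) t)) (fun r hr => by
        obtain ⟨l, hl⟩ := exists_lam (planeQ a b) h0 hn ρ hdec hr c
        rw [trP_lineT (planeQ a b) h0 hn ρ hdec hr hl, lam_eq_one (planeQ a b) h0 hn ρ hdec hr (by omega) hl, one_mul])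
    rw [sum_char_plane hab hc, RR_two, ← hfdef, hf4] at hD
    rw [trace_zero_sub hk hab hn ρ]
    push_cast at hD
    linear_combination -hD
  · omega
  · omega

omit hn ρ hirr hd2 hd

/-- The bound for the minus groups. -/
theorem minus_bound (ρ : ↥(Cfsg.Omega F (Cfsg.quadFormMinus (k + 1 + 1) F a b)) →* Module.End ℂ M) (hirr : IsIrr ρ)
    (hd2 : 2 ≤ Module.finrank ℂ M) :
    (Fintype.card F ^ (k + 1 + 1 + 1) + 1) * (Fintype.card F ^ (k + 1 + 1) - Fintype.card F) /
      (Fintype.card F ^ 2 - 1) ≤ Module.finrank ℂ M := by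
  rw [← BM_mul (F := F) hk, Nat.mul_div_cancel _ (Nat.sub_pos_of_lt (Nat.one_lt_pow two_ne_zero Fintype.one_lt_card))]
  revert ρ
  rw [← mix_plane_coe (k + 1 + 1) a b]
  intro ρ hirr
  exact Nat.le_of_not_lt fun h => minus_false hk hab (by omega) ρ hirr hd2 h

end Cfsg.Lib.OrthMinDeg
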