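import Cfsg.Agent.Known.OrthMinDegree.Mixed.Line2
import Cfsg.Agent.Classical.Orth.StdForms

/-! The anisotropic plane. -/

set_option autoImplicit false
set_option linter.unusedSectionVars false
set_option linter.style.haveILetI false

open Matrix Cfsg.Lib.Classical Cfsg.Lib.Classical.Refl Cfsg.Lib.Classical.HypQuad Cfsg.Lib.SLMinDeg
open scoped commutatorElement

namespace Cfsg.Lib.OrthMinDeg

universe u v

variable {F : Type u} [Field F]

/-- The binary form. -/
def planeQ (a b : F) : QuadraticForm F (Fin 2 → F) :=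
  QuadraticMap.linMulLin (LinearMap.proj 0) (LinearMap.proj 0) +
    a • QuadraticMap.linMulLin (LinearMap.proj 0) (LinearMap.proj 1) +
    b • QuadraticMap.linMulLin (LinearMap.proj 1) (LinearMap.proj 1)

theorem planeQ_apply (a b : F) (z : Fin 2 → F) :
    planeQ a b z = z 0 * z 0 + a * (z 0 * z 1) + b * (z 1 * z 1) := by
  simp [planeQ]

theorem polar_planeQ (a b : F) (z w : Fin 2 → F) : QuadraticMap.polar (⇑(planeQ a b)) z w =
    2 * (z 0 * w 0) + a * (z 0 * w 1 + z 1 * w 0) + 2 * b * (z 1 * w 1) := by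
  simp only [QuadraticMap.polar, planeQ_apply, Pi.add_apply]; ring

variable [Fintype F] {a b : F} (hab : ∀ z₁ z₂ : F, z₁ ^ 2 + a * z₁ * z₂ + b * z₂ ^ 2 = 0 → z₁ = 0 ∧ z₂ = 0)

include hab

theorem plane_aniso {t : Fin 2 → F} (h : planeQ a b t = 0) : t = 0 := by
  obtain ⟨h0, h1⟩ := hab (t 0) (t 1) (by rw [planeQ_apply] at h; linear_combination h)
  funext i; fin_cases i <;> assumption

theorem plane_nondeg : (QuadraticMap.polarBilin (planeQ a b)).Nondegenerate := by
  have hd := disc_ne_zero hab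
  have key : ∀ x : Fin 2 → F, (∀ y, QuadraticMap.polar (⇑(planeQ a b)) x y = 0) → x = 0 := by
    intro x hx
    have e0 := hx ![1, 0]
    have e1 := hx ![0, 1]
    simp [polar_planeQ] at e0 e1
    have f0 : x 0 = 0 := by
      have : (4 * b - a ^ 2) * x 0 = 0 := by linear_combination (2 * b) * e0 - a * e1
      exact (mul_eq_zero.mp this).resolve_left hd
    have f1 : x 1 = 0 := by
      have : (4 * b - a ^ 2) * x 1 = 0 := by linear_combination -a * e0 + 2 * e1
      exact (mul_eq_zero.mp this).resolve_left hd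
    funext i; fin_cases i <;> assumption
  exact ⟨key, fun y hy => key y fun x => by rw [QuadraticMap.polar_comm]; exact hy x⟩

theorem plane_surjective : Function.Surjective (planeQ a b) := by
  intro s
  by_cases h2 : (2 : F) = 0
  · obtain ⟨t, ht⟩ := exists_sqrt_two h2 s
    exact ⟨![t, 0], by rw [planeQ_apply]; simp [ht]⟩
  · have hd := disc_ne_zero hab
    have hR : Fintype.card F % 2 = 1 := FiniteField.odd_card_of_char_ne_two fun h => h2 (by
      haveI : CharP F 2 := ringChar.of_eq h
      exact CharTwo.two_eq_zero)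
    have hc : (4 * b - a ^ 2) / 4 ≠ 0 := div_ne_zero hd (by
      rw [show (4 : F) = 2 * 2 by norm_num]; exact mul_ne_zero h2 h2)
    open Polynomial in
    obtain ⟨x, y, hxy⟩ := FiniteField.exists_root_sum_quadratic (f := X ^ 2 - C s)
      (g := C ((4 * b - a ^ 2) / 4) * X ^ 2) (degree_X_pow_sub_C (by norm_num) s) (degree_C_mul_X_pow 2 hc) hR
    simp only [Polynomial.eval_sub, Polynomial.eval_pow, Polynomial.eval_X, Polynomial.eval_C, Polynomial.eval_mul]
      at hxy
    refine ⟨![x - a / 2 * y, y], ?_⟩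
    rw [planeQ_apply]
    simp only [Matrix.cons_val_zero, Matrix.cons_val_one]
    have h4 : (4 : F) ≠ 0 := by rw [show (4 : F) = 2 * 2 by norm_num]; exact mul_ne_zero h2 h2
    linear_combination (norm := (field_simp; ring)) hxy

theorem sum_char_plane [DecidableEq F] {c : F} (hc : c ≠ 0) :
    ∑ r ∈ Finset.univ.erase (0 : F), ∑ t : Fin 2 → F, psi0 (r * c * planeQ a b t) =
      (Fintype.card F : ℂ) - (Fintype.card F : ℂ) ^ 2 := by
  classical
  rw [Finset.sum_comm]
  have hs : ∀ t : Fin 2 → F, ∑ r ∈ Finset.univ.erase (0 : F), psi0 (r * c * planeQ a b t) =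
      (if t = 0 then (Fintype.card F : ℂ) else 0) - 1 := by
    intro t
    rw [Finset.sum_erase_eq_sub (Finset.mem_univ _), zero_mul, zero_mul, AddChar.map_zero_eq_one]
    congr 1
    simp only [mul_assoc]
    rw [AddChar.sum_mulShift _ (psi0_primitive (F := F))]
    by_cases h : t = 0
    · subst h; simp [planeQ_apply]
    · rw [if_neg (mul_ne_zero hc fun e => h (plane_aniso hab e)), if_neg h]; simp
  rw [Finset.sum_congr rfl fun t _ => hs t, Finset.sum_sub_distrib, Finset.sum_ite_eq', if_pos (Finset.mem_univ _)]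
  simp [Fintype.card_fun]

/-- A commutator of two reflections of the plane without fixed vectors. -/
theorem exists_fpf : ∃ x y : Cfsg.isometryGroup F (⇑(planeQ a b)),
    ∀ w, ∃ v, mat (planeQ a b) ⁅x, y⁆ *ᵥ v = v + w := by
  classical
  set Q := planeQ a b
  set u : Fin 2 → F := ![1, 0]
  set v : Fin 2 → F := if a = 0 then ![1, 1] else ![0, 1] with hv
  have hv1 : v 1 = 1 := by rw [hv]; split_ifs <;> simp
  have hu : Q u ≠ 0 := fun h => by simpa [u] using congrFun (plane_aniso hab h) 0
  have hvn : Q v ≠ 0 := fun h => by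
    have := congrFun (plane_aniso hab h) 1
    rw [hv1] at this; exact one_ne_zero this
  have hB : QuadraticMap.polar (⇑Q) u v ≠ 0 := by
    rw [hv]
    split_ifs with ha
    · have h2 : (2 : F) ≠ 0 := fun h2 => disc_ne_zero hab (by linear_combination 2 * b * h2 - a * ha)
      simpa [Q, u, polar_planeQ, ha] using h2
    · simpa [Q, u, polar_planeQ] using ha
  refine ⟨refl Q u hu, refl Q v hvn, fun w => ?_⟩
  set h := ⁅refl Q u hu, refl Q v hvn⁆
  have hinj : ∀ z, mat Q h *ᵥ z = z → z = 0 := by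
    intro z hz
    set y := mat Q ((refl Q u hu)⁻¹ * (refl Q v hvn)⁻¹) *ᵥ z with hy
    have e1 : mat Q (refl Q v hvn * refl Q u hu) *ᵥ y = z := by
      rw [hy, mat, ← Refl.mulVec_mul]
      rw [show refl Q v hvn * refl Q u hu * ((refl Q u hu)⁻¹ * (refl Q v hvn)⁻¹) = 1 by group]
      exact one_mulVec z
    have e2 : mat Q (refl Q u hu * refl Q v hvn) *ᵥ y = z := by
      rw [hy, mat, ← Refl.mulVec_mul, show refl Q u hu * refl Q v hvn * ((refl Q u hu)⁻¹ * (refl Q v hvn)⁻¹) = h by
        rw [show h = ⁅refl Q u hu, refl Q v hvn⁆ from rfl, commutatorElement_def]; group]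
      exact hz
    have e := e2.trans e1.symm
    rw [mat, Refl.mulVec_mul, mat, Refl.mulVec_mul, coe_refl, coe_refl, mulVec_eq, mulVec_eq, mulVec_eq, mulVec_eq,
      QuadraticMap.polar_sub_right, QuadraticMap.polar_sub_right, QuadraticMap.polar_smul_right,
      QuadraticMap.polar_smul_right, QuadraticMap.polar_comm (⇑Q) v u, smul_eq_mul, smul_eq_mul] at e
    set α := (Q v)⁻¹ * QuadraticMap.polar (⇑Q) v y with hα
    set β := (Q u)⁻¹ * QuadraticMap.polar (⇑Q) u y with hβ
    have e1' := congrFun e 1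
    simp only [Pi.sub_apply, Pi.smul_apply, smul_eq_mul, show u 1 = 0 by simp [u], hv1] at e1'
    have hβ0 : β = 0 := by
      have : (Q v)⁻¹ * (β * QuadraticMap.polar (⇑Q) u v) = 0 := by linear_combination -e1'
      exact (mul_eq_zero.mp ((mul_eq_zero.mp this).resolve_left (inv_ne_zero hvn))).resolve_right hB
    have e0' := congrFun e 0
    simp only [Pi.sub_apply, Pi.smul_apply, smul_eq_mul, show u 0 = 1 by simp [u]] at e0'
    have hα0 : α = 0 := by
      have h1 : (Q v)⁻¹ * (β * QuadraticMap.polar (⇑Q) u v) = 0 := by rw [hβ0, zero_mul, mul_zero]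
      have : (Q u)⁻¹ * (α * QuadraticMap.polar (⇑Q) u v) = 0 := by
        first
          | linear_combination e0'
          | linear_combination -e0'
          | linear_combination e0' + v 0 * h1
          | linear_combination -e0' + v 0 * h1
      exact (mul_eq_zero.mp ((mul_eq_zero.mp this).resolve_left (inv_ne_zero hu))).resolve_right hB
    have hy0 : y = 0 := by
      have p1 : QuadraticMap.polar (⇑Q) u y = 0 := (mul_eq_zero.mp hβ0).resolve_left (inv_ne_zero hu)
      have p2 : QuadraticMap.polar (⇑Q) v y = 0 := (mul_eq_zero.mp hα0).resolve_left (inv_ne_zero hvn)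
      refine (plane_nondeg hab).1 y fun r => ?_
      show QuadraticMap.polar (⇑Q) y r = 0
      rw [show r = (r 0 - r 1 * v 0) • u + r 1 • v by funext i; fin_cases i <;> simp [u, hv1],
        QuadraticMap.polar_add_right, QuadraticMap.polar_smul_right, QuadraticMap.polar_smul_right,
        QuadraticMap.polar_comm (⇑Q) y, QuadraticMap.polar_comm (⇑Q) y v, p1, p2, smul_zero, smul_zero, add_zero]
    rw [← e1, hy0, mulVec_zero]
  let L : (Fin 2 → F) →ₗ[F] (Fin 2 → F) := (mat Q h).mulVecLin - LinearMap.id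
  have hL : Function.Injective L := by
    rw [← LinearMap.ker_eq_bot, Submodule.eq_bot_iff]
    intro z hz
    exact hinj z (sub_eq_zero.mp (LinearMap.mem_ker.mp hz))
  obtain ⟨z, hz⟩ := (LinearMap.injective_iff_surjective.mp hL) w
  exact ⟨z, by rw [← hz]; simp [L]⟩

/-- The radical of the weight acts trivially. -/
theorem triv_plane {k : ℕ} {M : Type v} [AddCommGroup M] [Module ℂ M] [FiniteDimensional ℂ M] (hn : 3 ≤ k + 1 + 1)
    (ρ : OmM (k + 1 + 1) (planeQ a b) →* Module.End ℂ M)
    (hdec : ∀ L : Module.Dual F (AltM F (k + 1 + 1)), Dec L →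
      Module.finrank ℂ (Eg hn (rhoP (planeQ a b) ρ) L) = RR F (Fin 2)) {c : F} (hc : c ≠ 0) :
    Triv (planeQ a b) (plane_nondeg hab) hn ρ c := by
  obtain ⟨x, y, hxy⟩ := exists_fpf hab
  refine triv_of_scale _ _ hn ρ hdec hc fun j _ _ w => ?_
  obtain ⟨v, hv⟩ := hxy w
  refine ⟨⟨embW _ ⁅x, y⁆, commutator_mem _ x y⟩, v, fun z hz => ?_, ?_⟩
  · exact map_mem_eig ρ (f := xM (planeQ a b) hn) id Function.surjective_id
      (fun A => embW_conj_x _ hn _ _ A) (fun _ => rfl) hz
  · refine (embW_conj_u _ (plane_nondeg hab) hn _ _ _ v).trans ?_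
    rw [hv]

end Cfsg.Lib.OrthMinDeg
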